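import Mathlib
import Cfsg.Prelude.Def_Blocks
import Cfsg.Agent.Lib.CharTheory.CyclicCofactor.Regular
import Cfsg.Agent.Lib.Blocks.CentralBlock
import Cfsg.Agent.BlockCharsA.DefectZeroVanish

/-!
# A pairing over the regular elements, weighted by fixed points on a normal `p`-subgroup

For a character `g` trivial on the normal `p`-subgroup `V` and of full degree modulo `V`, the inner
product with a function that only depends on the regular part is a sum over the regular elements,
the element `y` counted with the number of elements of `V` commuting with it.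
-/

set_option linter.style.haveILetI false
set_option linter.unusedSectionVars false

namespace Cfsg.Agent.Blocks.EqualDegree

open Cfsg.Agent.Characters Cfsg.Agent.Blocks
open scoped ComplexConjugate

universe u v

variable {L : Type u} [Group L] [Finite L] {p : ℕ}

theorem orderOf_conj_eq (h y : L) : orderOf (h * y * h⁻¹) = orderOf y := by
  simpa using MulEquiv.orderOf_eq (MulAut.conj h) y

/-- The number of elements of `V` commuting with `y`. -/
noncomputable def wt (V : Subgroup L) (y : L) : ℕ :=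
  Nat.card {v : V // Commute (v : L) y}

theorem wt_le (V : Subgroup L) (y : L) : wt V y ≤ Nat.card V :=
  Nat.card_le_card_of_injective _ Subtype.val_injective

theorem wt_eq_iff (V : Subgroup L) (y : L) :
    wt V y = Nat.card V ↔ y ∈ Subgroup.centralizer (V : Set L) := by
  constructor
  · intro h v hv
    have hb : Function.Bijective (Subtype.val : {v : V // Commute (v : L) y} → V) :=
      (Nat.bijective_iff_injective_and_card _).2 ⟨Subtype.val_injective, h⟩
    obtain ⟨⟨w, hw⟩, e⟩ := hb.2 ⟨v, hv⟩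
    subst e
    exact hw
  · intro h
    exact Nat.card_congr (Equiv.subtypeUnivEquiv fun v : V => h v v.2)

theorem wt_conj (V : Subgroup L) [V.Normal] (h y : L) : wt V (h * y * h⁻¹) = wt V y := by
  refine (Nat.card_congr ((MulAut.conjNormal h : V ≃* V).toEquiv.subtypeEquiv fun v => ?_)).symm
  show Commute (v : L) y ↔ Commute (((MulAut.conjNormal h : V ≃* V) v : V) : L) (h * y * h⁻¹)
  rw [MulAut.conjNormal_apply, commute_iff_eq, commute_iff_eq,
    show h * (v : L) * h⁻¹ * (h * y * h⁻¹) = h * ((v : L) * y) * h⁻¹ by group,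
    show h * y * h⁻¹ * (h * (v : L) * h⁻¹) = h * (y * (v : L)) * h⁻¹ by group]
  exact ⟨fun e => by rw [e], fun e => mul_left_cancel (mul_right_cancel e)⟩

theorem wt_subgroupOf {V H : Subgroup L} (hVH : V ≤ H) (y : H) :
    wt (V.subgroupOf H) y = wt V (y : L) := by
  refine Nat.card_congr ((Subgroup.subgroupOfEquivOfLe hVH).toEquiv.subtypeEquiv fun v => ?_)
  show Commute ((v : V.subgroupOf H) : H) y ↔ _
  rw [commute_iff_eq, commute_iff_eq, Subtype.ext_iff]
  rfl

/-- Trivial on `V` and zero where the `p`-part is outside `V`. -/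
def Nice (p : ℕ) (V : Subgroup L) (g : L → ℂ) : Prop :=
  (∀ x, ∀ v ∈ V, g (x * v) = g x) ∧ ∀ x a, Cfsg.IsPPart p x a → a ∉ V → g x = 0

/-- The weighted pairing over the regular elements. -/
noncomputable def pairV [Fintype L] (p : ℕ) (V : Subgroup L) (F g : L → ℂ) : ℂ :=
  (Nat.card L : ℂ)⁻¹ *
    ∑ y : L, if p ∣ orderOf y then 0 else (wt V y : ℂ) * (F y * conj (g y))

theorem sum_eq_sum_wt [Fintype L] (hp : p.Prime) {V : Subgroup L} (hV : IsPGroup p V) {f : L → ℂ}
    (hvan : ∀ x a, Cfsg.IsPPart p x a → a ∉ V → f x = 0)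
    (hconst : ∀ y, ∀ v ∈ V, ¬ p ∣ orderOf y → Commute v y → f (y * v) = f y) :
    ∑ x : L, f x = ∑ y : L, if p ∣ orderOf y then 0 else (wt V y : ℂ) * f y := by
  classical
  haveI := Fact.mk hp
  haveI := Fintype.ofFinite V
  let S := {q : L × V // ¬ p ∣ orderOf q.1 ∧ Commute (q.2 : L) q.1}
  have hpp : ∀ q : S, Cfsg.IsPPart p (q.1.1 * (q.1.2 : L)) (q.1.2 : L) := fun q => by
    refine ⟨q.1.1, q.2.2.eq, q.2.2, ?_, q.2.1⟩
    obtain ⟨k, hk⟩ := IsPGroup.iff_orderOf.1 hV q.1.2
    exact ⟨k, by rw [Subgroup.orderOf_coe, hk]⟩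
  have hinj : Function.Injective fun q : S => q.1.1 * (q.1.2 : L) := by
    intro q r e
    have e2 : (q.1.2 : L) = (r.1.2 : L) := ppart_unique hp (hpp q) (by
      rw [show q.1.1 * (q.1.2 : L) = r.1.1 * (r.1.2 : L) from e]
      exact hpp r)
    have e' : q.1.1 * (q.1.2 : L) = r.1.1 * (r.1.2 : L) := e
    rw [e2] at e'
    have e1 : q.1.1 = r.1.1 := mul_right_cancel e'
    exact Subtype.ext (Prod.ext e1 (Subtype.ext e2))
  rw [← Fintype.sum_of_injective (fun q : S => q.1.1 * (q.1.2 : L)) hinj (fun q => f q.1.1) f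
    (fun x hx => ?_) fun q => (hconst _ _ q.1.2.2 q.2.1 q.2.2).symm]
  · rw [← Finset.sum_subtype (Finset.univ.filter fun q : L × V =>
      ¬ p ∣ orderOf q.1 ∧ Commute (q.2 : L) q.1) (fun q => by simp) fun q => f q.1,
      Finset.sum_filter, Fintype.sum_prod_type]
    refine Finset.sum_congr rfl fun y _ => ?_
    by_cases hy : p ∣ orderOf y
    · simp [hy]
    · rw [if_neg hy, wt, Nat.card_eq_fintype_card, Fintype.card_subtype,
        ← Finset.sum_filter]
      simp only [hy, not_false_eq_true, true_and, Finset.sum_const, nsmul_eq_mul]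
  · obtain ⟨a, ha⟩ := exists_ppart hp x
    refine hvan x a ha fun haV => hx ?_
    obtain ⟨y, e, hc, -, hy⟩ := id ha
    exact ⟨⟨(y, ⟨a, haV⟩), hy, hc⟩, by show y * a = x; rw [← e, hc.eq]⟩

variable [Fintype L]

theorem inner_eq_pairV (hp : p.Prime) {V : Subgroup L} (hV : IsPGroup p V) {F g : L → ℂ}
    (hg : Nice p V g)
    (hF : ∀ y, ∀ v ∈ V, ¬ p ∣ orderOf y → Commute v y → F (y * v) = F y) :
    Cfsg.classInner F g = pairV p V F g := by
  rw [classInner_def, pairV, sum_eq_sum_wt hp hV (fun x a h h' => by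
    rw [hg.2 x a h h', map_zero, mul_zero]) fun y v hv hy hc => by
    rw [hF y v hv hy hc, hg.1 y v hv]]

theorem pairV_congr {V : Subgroup L} {F F' g : L → ℂ}
    (h : ∀ y, ¬ p ∣ orderOf y → F y = F' y) : pairV p V F g = pairV p V F' g := by
  unfold pairV
  congr 1
  refine Finset.sum_congr rfl fun y _ => ?_
  by_cases hy : p ∣ orderOf y
  · simp [hy]
  · simp only [if_neg hy, h y hy]

theorem pairV_sum {ι : Type*} (s : Finset ι) (V : Subgroup L) (c : ι → ℂ) (F : ι → L → ℂ)
    (g : L → ℂ) :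
    pairV p V (fun y => ∑ i ∈ s, c i * F i y) g = ∑ i ∈ s, c i * pairV p V (F i) g := by
  unfold pairV
  have e : ∀ i, c i * ((Nat.card L : ℂ)⁻¹ *
      ∑ y : L, if p ∣ orderOf y then 0 else (wt V y : ℂ) * (F i y * conj (g y))) =
      (Nat.card L : ℂ)⁻¹ *
        ∑ y : L, c i * (if p ∣ orderOf y then 0 else (wt V y : ℂ) * (F i y * conj (g y))) :=
    fun i => by rw [mul_left_comm, Finset.mul_sum (a := c i)]
  simp only [e]
  rw [← Finset.mul_sum, Finset.sum_comm]
  congr 1
  refine Finset.sum_congr rfl fun y _ => ?_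
  split
  · simp
  · rw [Finset.sum_mul, Finset.mul_sum]
    exact Finset.sum_congr rfl fun i _ => by ring

/-- A function and its composite with the regular part pair alike. -/
theorem pairV_eq_inner_reg [Fact p.Prime] {V : Subgroup L} (hV : IsPGroup p V) {g : L → ℂ}
    (hg : Nice p V g) {m : ℕ}
    (hm₁ : ∀ n : ℕ, n ∣ Nat.card L → ¬ p ∣ n → m ≡ 1 [MOD n])
    (hm₂ : ∀ i : ℕ, p ^ i ∣ Nat.card L → p ^ i ∣ m) (η : L → ℂ) :
    pairV p V η g = Cfsg.classInner (fun x => η (x ^ m)) g := by
  rw [inner_eq_pairV Fact.out hV hg fun y v hv _ hc => ?_]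
  · exact pairV_congr fun y hy => by
      rw [CharTheory.CyclicCofactor.pow_regular hm₁ dvd_rfl hy]
  · obtain ⟨i, hi⟩ := IsPGroup.iff_orderOf.1 hV ⟨v, hv⟩
    rw [Subgroup.orderOf_mk] at hi
    show η ((y * v) ^ m) = η (y ^ m)
    rw [hc.symm.mul_pow, CharTheory.CyclicCofactor.pow_pElement hm₂ dvd_rfl hi, mul_one]

/-- The weighted pairing of characters is an integer. -/
theorem pairV_int [Fact p.Prime] {V : Subgroup L} (hV : IsPGroup p V) {g η : L → ℂ}
    (hg : Nice p V g) (hgc : Cfsg.IsGeneralizedCharacter L g)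
    (hη : Cfsg.IsGeneralizedCharacter L η) : ∃ z : ℤ, pairV p V η g = z := by
  obtain ⟨m, hm₁, hm₂⟩ := CharTheory.CyclicCofactor.exists_regular_exp (K := L) (p := p) Fact.out
  rw [pairV_eq_inner_reg hV hg hm₁ hm₂ η]
  exact classInner_gen_int (CharTheory.CyclicCofactor.isGen_pow hm₁ hm₂ hη) hgc

/-- The weighted square sum. -/
noncomputable def sq (p : ℕ) (V : Subgroup L) (g : L → ℂ) : ℝ :=
  (Nat.card L : ℝ)⁻¹ *
    ∑ y : L, if p ∣ orderOf y then 0 else (wt V y : ℝ) ^ 2 * ‖g y‖ ^ 2

/-- The square sum is at most the order of `V`, with equality only for functions living on the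
centraliser of `V`. -/
theorem sq_le (hp : p.Prime) {V : Subgroup L} (hV : IsPGroup p V) {g : L → ℂ} (hg : Nice p V g)
    (h1 : Cfsg.classInner g g = 1) :
    sq p V g ≤ (Nat.card V : ℝ) ∧
      (sq p V g = (Nat.card V : ℝ) → ∀ x, x ∉ Subgroup.centralizer (V : Set L) →
        ¬ p ∣ orderOf x → g x = 0) := by
  rw [inner_eq_pairV hp hV hg fun y v hv _ _ => hg.1 y v hv] at h1
  have hN : (0 : ℝ) < (Nat.card L : ℝ) := Nat.cast_pos.2 Nat.card_pos
  have h1' : (Nat.card L : ℝ)⁻¹ *
      ∑ y : L, (if p ∣ orderOf y then 0 else (wt V y : ℝ) * ‖g y‖ ^ 2) = 1 := by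
    apply Complex.ofReal_injective
    push_cast
    rw [← h1, pairV]
    congr 1
    refine Finset.sum_congr rfl fun y _ => ?_
    split
    · simp
    · rw [Complex.mul_conj']; push_cast; ring
  set d : L → ℝ := fun y => if p ∣ orderOf y then 0 else
    (wt V y : ℝ) * ((Nat.card V : ℝ) - wt V y) * ‖g y‖ ^ 2
  have hd : ∀ y, 0 ≤ d y := fun y => by
    simp only [d]
    split
    · exact le_rfl
    · exact mul_nonneg (mul_nonneg (Nat.cast_nonneg _)
        (sub_nonneg.2 (Nat.cast_le.2 (wt_le V y)))) (sq_nonneg _)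
  have key : (Nat.card V : ℝ) - sq p V g = (Nat.card L : ℝ)⁻¹ * ∑ y : L, d y := by
    conv_lhs => rw [← mul_one (Nat.card V : ℝ), ← h1', sq, mul_left_comm, Finset.mul_sum
      (a := (Nat.card V : ℝ)), ← mul_sub, ← Finset.sum_sub_distrib]
    congr 1
    refine Finset.sum_congr rfl fun y _ => ?_
    simp only [d]
    split
    · ring
    · ring
  have hs : 0 ≤ ∑ y : L, d y := Finset.sum_nonneg fun y _ => hd y
  refine ⟨sub_nonneg.1 (key ▸ mul_nonneg (inv_nonneg.2 hN.le) hs), fun heq x hx hxr => ?_⟩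
  rw [heq, sub_self, eq_comm, mul_eq_zero, inv_eq_zero, or_iff_right hN.ne'] at key
  have h2 := (Finset.sum_eq_zero_iff_of_nonneg fun y _ => hd y).1 key x (Finset.mem_univ _)
  simp only [d, if_neg hxr, mul_eq_zero] at h2
  rcases h2 with (h2 | h2) | h2
  · exact absurd h2 (Nat.cast_ne_zero.2 (Nat.card_pos_iff.2
      ⟨⟨⟨1, Commute.one_left x⟩⟩, inferInstance⟩).ne')
  · exact absurd ((wt_eq_iff V x).1 (by exact_mod_cast (sub_eq_zero.1 h2).symm)) hx
  · exact norm_eq_zero.1 ((pow_eq_zero_iff two_ne_zero).1 h2)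

/-- A regular class sum against two characters of the ambient group. -/
theorem sum_irr_mul_conj_card {G : Type v} [Group G] [Finite G]
    [Fintype (Cfsg.IrrCharacter G)] (a b : G) :
    ∑ χ : Cfsg.IrrCharacter G, (χ : G → ℂ) a * conj ((χ : G → ℂ) b) =
      (Nat.card {g : G // g * a * g⁻¹ = b} : ℂ) := by
  classical
  rw [second_orthogonality]
  split_ifs with h
  · obtain ⟨c, hc⟩ := isConj_iff.1 h
    congr 1
    refine Nat.card_congr
      { toFun := fun z => ⟨(z : G) * c, ?_⟩
        invFun := fun g => ⟨(g : G) * c⁻¹, ?_⟩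
        left_inv := fun z => Subtype.ext (by simp)
        right_inv := fun g => Subtype.ext (by simp) }
    · calc (z : G) * c * a * ((z : G) * c)⁻¹ = (z : G) * (c * a * c⁻¹) * (z : G)⁻¹ := by group
        _ = b := by rw [hc, Subgroup.mem_centralizer_singleton_iff.1 z.2, mul_inv_cancel_right]
    · rw [Subgroup.mem_centralizer_singleton_iff]
      have hg : (g : G) * a * (g : G)⁻¹ = b := g.2
      calc (g : G) * c⁻¹ * b = (g : G) * c⁻¹ * (c * a * c⁻¹) := by rw [hc]
        _ = (g : G) * a * c⁻¹ := by group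
        _ = ((g : G) * a * (g : G)⁻¹) * ((g : G) * c⁻¹) := by group
        _ = b * ((g : G) * c⁻¹) := by rw [hg]
  · rw [show Nat.card {g : G // g * a * g⁻¹ = b} = 0 from ?_, Nat.cast_zero]
    rw [Nat.card_eq_zero]
    exact Or.inl ⟨fun g => h (isConj_iff.2 ⟨g, g.2⟩)⟩

/-- Column orthogonality for the pairings at `φ y = v ι(y)`. -/
theorem sum_orth {G : Type v} [Group G] [Finite G] [Fintype (Cfsg.IrrCharacter G)]
    (ι : L →* G) (hι : Function.Injective ι) (v : G) (hcomm : ∀ h, Commute (ι h) v)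
    (hconj : ∀ y y' : L, ¬ p ∣ orderOf y → ¬ p ∣ orderOf y' → ∀ g : G,
      g * (v * ι y) * g⁻¹ = v * ι y' → g ∈ ι.range)
    (V : Subgroup L) [V.Normal] (f f' : L → ℂ) (hf' : Cfsg.IsClassFunction L f') :
    ∑ χ : Cfsg.IrrCharacter G, pairV p V (fun y => (χ : G → ℂ) (v * ι y)) f *
        conj (pairV p V (fun y => (χ : G → ℂ) (v * ι y)) f') =
      (Nat.card L : ℂ)⁻¹ *
        ∑ y : L, if p ∣ orderOf y then 0 else (wt V y : ℂ) ^ 2 * (conj (f y) * f' y) := by
  classical
  set N : ℂ := (Nat.card L : ℂ)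
  have hN : N ≠ 0 := natCard_ne_zero
  let A : (L → ℂ) → L → ℂ := fun k y => if p ∣ orderOf y then 0 else (wt V y : ℂ) * conj (k y)
  have hpair : ∀ (k : L → ℂ) (χ : Cfsg.IrrCharacter G),
      pairV p V (fun y => (χ : G → ℂ) (v * ι y)) k =
        N⁻¹ * ∑ y : L, A k y * (χ : G → ℂ) (v * ι y) := fun k χ => by
    unfold pairV
    congr 1
    refine Finset.sum_congr rfl fun y _ => ?_
    simp only [A]
    split <;> ring
  have hinv : ∀ (h y : L), A f' (h * y * h⁻¹) = A f' y := fun h y => by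
    simp only [A, orderOf_conj_eq, wt_conj, hf' y h]
  calc ∑ χ : Cfsg.IrrCharacter G, pairV p V (fun y => (χ : G → ℂ) (v * ι y)) f *
        conj (pairV p V (fun y => (χ : G → ℂ) (v * ι y)) f')
      = ∑ χ : Cfsg.IrrCharacter G, ∑ y : L, ∑ y' : L, N⁻¹ * N⁻¹ * (A f y * conj (A f' y')) *
          ((χ : G → ℂ) (v * ι y) * conj ((χ : G → ℂ) (v * ι y'))) := by
        refine Finset.sum_congr rfl fun χ _ => ?_
        rw [hpair, hpair, map_mul, map_inv₀, Complex.conj_natCast, map_sum, mul_mul_mul_comm,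
          Finset.sum_mul_sum, Finset.mul_sum]
        refine Finset.sum_congr rfl fun y _ => ?_
        rw [Finset.mul_sum]
        exact Finset.sum_congr rfl fun y' _ => by rw [map_mul]; ring
    _ = ∑ y : L, ∑ y' : L, N⁻¹ * N⁻¹ * (A f y * conj (A f' y')) *
          (Nat.card {g : G // g * (v * ι y) * g⁻¹ = v * ι y'} : ℂ) := by
        rw [Finset.sum_comm]
        refine Finset.sum_congr rfl fun y _ => ?_
        rw [Finset.sum_comm]
        exact Finset.sum_congr rfl fun y' _ => by rw [← Finset.mul_sum, sum_irr_mul_conj_card]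
    _ = ∑ y : L, ∑ y' : L, N⁻¹ * N⁻¹ * (A f y * conj (A f' y')) *
          ∑ h : L, if h * y * h⁻¹ = y' then 1 else 0 := by
        refine Finset.sum_congr rfl fun y _ => Finset.sum_congr rfl fun y' _ => ?_
        by_cases hy : p ∣ orderOf y
        · simp [A, hy]
        by_cases hy' : p ∣ orderOf y'
        · simp [A, hy']
        congr 1
        rw [Finset.sum_boole, Nat.cast_inj, ← Fintype.card_subtype, ← Nat.card_eq_fintype_card]
        have key : ∀ h : L, h * y * h⁻¹ = y' ↔ ι h * (v * ι y) * (ι h)⁻¹ = v * ι y' := fun h => by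
          rw [← mul_assoc (ι h), (hcomm h).eq, mul_assoc v (ι h), mul_assoc v, mul_right_inj,
            ← map_inv, ← map_mul, ← map_mul, hι.eq_iff]
        symm
        refine Nat.card_eq_of_bijective
          (fun h => ⟨ι h.1, (key h.1).1 h.2⟩) ⟨fun h h' e => ?_, fun g => ?_⟩
        · exact Subtype.ext (hι (congrArg Subtype.val e))
        · obtain ⟨h, hh⟩ := hconj y y' hy hy' g g.2
          exact ⟨⟨h, (key h).2 (by rw [hh]; exact g.2)⟩, Subtype.ext hh⟩
    _ = ∑ y : L, ∑ h : L, N⁻¹ * N⁻¹ * (A f y * conj (A f' y)) := by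
        refine Finset.sum_congr rfl fun y _ => ?_
        simp_rw [Finset.mul_sum, mul_ite, mul_one, mul_zero]
        rw [Finset.sum_comm]
        refine Finset.sum_congr rfl fun h _ => ?_
        rw [Finset.sum_ite_eq, if_pos (Finset.mem_univ _), hinv h y]
    _ = _ := by
        rw [Finset.mul_sum]
        refine Finset.sum_congr rfl fun y _ => ?_
        rw [Finset.sum_const, Finset.card_univ, nsmul_eq_mul, ← Nat.card_eq_fintype_card]
        simp only [A]
        split
        · simp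
        · rw [map_mul, Complex.conj_natCast, Complex.conj_conj]
          show N * (N⁻¹ * N⁻¹ * _) = N⁻¹ * _
          field_simp

/-- The norm form of `sum_orth`. -/
theorem sum_normSq {G : Type v} [Group G] [Finite G] [Fintype (Cfsg.IrrCharacter G)]
    (ι : L →* G) (hι : Function.Injective ι) (v : G) (hcomm : ∀ h, Commute (ι h) v)
    (hconj : ∀ y y' : L, ¬ p ∣ orderOf y → ¬ p ∣ orderOf y' → ∀ g : G,
      g * (v * ι y) * g⁻¹ = v * ι y' → g ∈ ι.range)
    (V : Subgroup L) [V.Normal] (f : L → ℂ) (hf : Cfsg.IsClassFunction L f) :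
    ∑ χ : Cfsg.IrrCharacter G, ‖pairV p V (fun y => (χ : G → ℂ) (v * ι y)) f‖ ^ 2 = sq p V f := by
  apply Complex.ofReal_injective
  push_cast
  simp_rw [← Complex.mul_conj']
  rw [sum_orth ι hι v hcomm hconj V f f hf, sq]
  push_cast
  congr 1
  refine Finset.sum_congr rfl fun y _ => ?_
  split
  · simp
  · push_cast
    rw [Complex.conj_mul']

end Cfsg.Agent.Blocks.EqualDegree
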