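import Mathlib
import Cfsg.Agent.Lib.Blocks.EqualDegree.Pair
import Cfsg.Agent.Lib.Blocks.Covering
import Cfsg.Agent.Lib.CharTheory.Ito

/-!
# Characters trivial on a normal `p`-subgroup, and their weights in a block of equal degrees
-/

set_option linter.style.haveILetI false
set_option linter.unusedSectionVars false

namespace Cfsg.Agent.Blocks.EqualDegree

open Cfsg.Agent.Characters Cfsg.Agent.Blocks Cfsg.Agent.CharTheory
open scoped ComplexConjugate

universe u v

variable {L : Type u} [Group L] [Finite L] {p : ℕ} {M : Ideal Cfsg.AlgInt}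

/-- A constituent of a constituent, along a homomorphism. -/
theorem constituent_comp {C : Type v} [Group C] [Fintype C] [Fintype L] (ι : C →* L)
    {Φ χ : L → ℂ} {φ : C → ℂ} (hΦ : Cfsg.IsCharacter L Φ) (hχ : Cfsg.IsIrrCharacter L χ)
    (hφ : Cfsg.IsCharacter C φ) (h1 : Cfsg.classInner Φ χ ≠ 0)
    (h2 : Cfsg.classInner (fun c => χ (ι c)) φ ≠ 0) :
    Cfsg.classInner (fun c => Φ (ι c)) φ ≠ 0 := by
  classical
  haveI := Fintype.ofFinite (Cfsg.IrrCharacter L)
  choose a ha using fun ψ : Cfsg.IrrCharacter L => classInner_char_nat hΦ (irr_isCharacter ψ)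
  choose b hb using fun ψ : Cfsg.IrrCharacter L =>
    classInner_char_nat (isCharacter_comp ι (irr_isCharacter ψ)) hφ
  have hexp : (fun c => Φ (ι c)) = ∑ ψ : Cfsg.IrrCharacter L,
      (a ψ : ℂ) • ((ψ : L → ℂ) ∘ ι) := by
    funext c
    have := congrFun (classFun_eq_sum (char_isClassFunction hΦ)) (ι c)
    simpa [ha, Finset.sum_apply] using this
  rw [hexp, classInner_sum_left]
  simp only [classInner_smul_left, hb, ← Nat.cast_mul, ← Nat.cast_sum, Nat.cast_ne_zero]
  intro h0
  have h3 := (Finset.sum_eq_zero_iff.mp h0) ⟨χ, hχ⟩ (Finset.mem_univ _)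
  rcases mul_eq_zero.mp h3 with h | h
  · exact h1 (by rw [show Cfsg.classInner Φ χ = _ from ha ⟨χ, hχ⟩, h, Nat.cast_zero])
  · exact h2 (by
      rw [show Cfsg.classInner (fun c => χ (ι c)) φ = _ from hb ⟨χ, hχ⟩, h, Nat.cast_zero])

/-- The constituents of a character trivial on a normal subgroup are trivial on it. -/
theorem trivial_of_constituent [Fintype L] (V : Subgroup L) [V.Normal] {Φ : L → ℂ}
    (hΦ : Cfsg.IsCharacter L Φ) (htriv : ∀ v ∈ V, Φ v = Φ 1) (χ : Cfsg.IrrCharacter L)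
    (h : Cfsg.classInner Φ (χ : L → ℂ) ≠ 0) : ∀ v ∈ V, (χ : L → ℂ) v = (χ : L → ℂ) 1 := by
  haveI := Fintype.ofFinite V
  obtain ⟨φ, hφ⟩ := BlockCharsA.NormalSupport.exists_under (N := V) χ
  have h2 := Clifford.classInner_restrict_ne_zero V hΦ χ.2 (irr_isCharacter φ) h hφ
  rw [show (fun n : V => Φ n) = Φ 1 • (trivIrr V : V → ℂ) from funext fun n => by
    simp [trivIrr, htriv n n.2], classInner_smul_left, classInner_irr] at h2
  have e : trivIrr V = φ := by
    by_contra e
    rw [if_neg e, mul_zero] at h2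
    exact h2 rfl
  subst e
  exact (constituent_trivIrr_iff χ).1 hφ

/-- A character trivial on `V` and of full degree modulo `V` is nice. -/
theorem nice_of_full (hp : p.Prime) (V : Subgroup L) [V.Normal] (χ : Cfsg.IrrCharacter L)
    (htriv : ∀ v ∈ V, (χ : L → ℂ) v = (χ : L → ℂ) 1)
    (hfull : V.index.factorization p ≤ (Cfsg.charDegree (χ : L → ℂ)).factorization p) :
    Nice p V (χ : L → ℂ) := by
  obtain ⟨φ, -, hφ, hirr⟩ := exists_deflate_quotient V (irr_isCharacter χ) htriv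
  refine ⟨fun x v hv => by rw [← hφ, ← hφ, QuotientGroup.mk_mul_of_mem x hv],
    fun x a hxa haV => ?_⟩
  rw [← hφ]
  refine BlockCharsA.DefectZeroVanish.eq_zero_of_singular hp ⟨φ, hirr χ.2⟩ ?_ ?_
  · have he : Cfsg.charDegree φ = Cfsg.charDegree (χ : L → ℂ) := by
      simp only [Cfsg.charDegree, ← hφ, QuotientGroup.mk_one]
    show p ^ _ ∣ Cfsg.charDegree φ
    rw [he, ← Subgroup.index_eq_card]
    exact (pow_dvd_pow p hfull).trans (Nat.ordProj_dvd _ p)
  · by_contra hreg
    obtain ⟨y, rfl, hc, ⟨k, hk⟩, hy⟩ := hxa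
    set m := orderOf (((a * y : L)) : L ⧸ V)
    have h1 : (a * y) ^ (m * orderOf y) ∈ V := by
      rw [pow_mul]
      refine V.pow_mem ?_ _
      rw [← QuotientGroup.eq_one_iff, QuotientGroup.mk_pow]
      exact pow_orderOf_eq_one _
    rw [hc.mul_pow, show y ^ (m * orderOf y) = 1 by rw [pow_mul', pow_orderOf_eq_one, one_pow],
      mul_one] at h1
    obtain ⟨j, hj⟩ := exists_pow_eq_self_of_coprime (x := a) (n := m * orderOf y) (by
      rw [hk]
      exact (Nat.Coprime.mul_left (hp.coprime_iff_not_dvd.2 hreg).symm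
        (hp.coprime_iff_not_dvd.2 hy).symm).pow_right k)
    exact haV (hj ▸ V.pow_mem h1 j)

variable [Fintype L] [Fintype (Cfsg.IrrCharacter L)] {V : Subgroup L} [V.Normal]

/-- In a block all of whose degrees equal that of a nice member `ψ`, exactly `|V|` members have
weight one against `ψ` and the others weight zero. -/
theorem exists_weights (hM : Cfsg.IsPModular p M) (hV : IsPGroup p V)
    {B : Set (Cfsg.IrrCharacter L)} (hB : Cfsg.IsPBlock M B) {ψ : Cfsg.IrrCharacter L}
    (hψB : ψ ∈ B) (hψ : Nice p V (ψ : L → ℂ))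
    (hd : ∀ χ ∈ B, Cfsg.charDegree (χ : L → ℂ) = Cfsg.charDegree (ψ : L → ℂ)) :
    ∃ z : Cfsg.IrrCharacter L → ℤ, (∀ χ : Cfsg.IrrCharacter L, pairV p V (χ : L → ℂ) (ψ : L → ℂ) = z χ) ∧
      (∀ χ, z χ = 0 ∨ z χ = 1) ∧ ∑ χ, z χ = Nat.card V ∧
      ∀ x, x ∉ Subgroup.centralizer (V : Set L) → ¬ p ∣ orderOf x → (ψ : L → ℂ) x = 0 := by
  classical
  haveI := fact_prime_of_pm hM
  choose z hz using fun χ : Cfsg.IrrCharacter L => pairV_int hV hψ
    (isGen_of_isCharacter (irr_isCharacter ψ)) (isGen_of_isCharacter (irr_isCharacter χ))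
  set S := Finset.univ.filter fun χ : Cfsg.IrrCharacter L => χ ∈ B
  obtain ⟨hle, heq⟩ := sq_le hM.1 hV hψ (classInner_isIrr_self ψ.2)
  -- the sum of the squares
  have hsq : ((∑ χ, z χ ^ 2 : ℤ) : ℝ) = sq p V (ψ : L → ℂ) := by
    rw [← sum_normSq (p := p) (MonoidHom.id L) Function.injective_id 1
      (fun h => Commute.one_right _) (fun _ _ _ _ g _ => ⟨g, rfl⟩) V _ (irr_isClassFunction ψ)]
    push_cast
    refine Finset.sum_congr rfl fun χ _ => ?_
    rw [show (fun y => (χ : L → ℂ) (1 * MonoidHom.id L y)) = (χ : L → ℂ) from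
      funext fun y => by simp, hz χ, Complex.norm_intCast, sq_abs]
  -- the sum over the block
  have hsum : ∑ χ ∈ S, z χ = Nat.card V := by
    obtain ⟨n, hn0, hn⟩ := irr_one_pos ψ.2
    have hdeg : ∀ χ ∈ S, (χ : L → ℂ) 1 = (n : ℂ) := fun χ hχ => by
      rw [← charDegree_cast χ, hd χ (Finset.mem_filter.1 hχ).2, charDegree_cast, hn]
    suffices h : ((∑ χ ∈ S, z χ : ℤ) : ℂ) * n = (Nat.card V : ℂ) * n by
      exact_mod_cast mul_right_cancel₀ (Nat.cast_ne_zero.2 hn0.ne') h
    set ρ : L → ℂ := fun y => ∑ χ ∈ S, (χ : L → ℂ) 1 * (χ : L → ℂ) y with hρ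
    have hρc : ∀ y, ρ y = (Nat.card L : ℂ) * conj (Cfsg.blockCoeff B y) := fun y => by
      rw [blockCoeff_eq_sum, map_mul, map_inv₀, Complex.conj_natCast, map_sum,
        mul_inv_cancel_left₀ natCard_ne_zero, hρ]
      simp only [S, Finset.sum_filter]
      refine Finset.sum_congr rfl fun χ _ => ?_
      split
      · rw [map_mul, Complex.conj_conj, ← charDegree_cast χ, Complex.conj_natCast]
      · simp
    have h1 : ((∑ χ ∈ S, z χ : ℤ) : ℂ) * n = pairV p V ρ (ψ : L → ℂ) := by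
      rw [hρ, pairV_sum, Int.cast_sum, Finset.sum_mul]
      exact Finset.sum_congr rfl fun χ hχ => by rw [hz χ, hdeg χ hχ, mul_comm]
    have h2 : pairV p V ρ (ψ : L → ℂ) =
        (Nat.card V : ℂ) * Cfsg.classInner ρ (ψ : L → ℂ) := by
      rw [pairV, classInner_def, mul_left_comm (Nat.card V : ℂ),
        Finset.mul_sum (a := (Nat.card V : ℂ))]
      congr 1
      refine Finset.sum_congr rfl fun y _ => ?_
      by_cases hy : p ∣ orderOf y
      · rw [if_pos hy, hρc, blockCoeff_eq_zero_of_singular hM (intEl_blockIdem hM hB) hy]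
        simp
      · rw [if_neg hy]
        by_cases hyC : y ∈ Subgroup.centralizer (V : Set L)
        · rw [(wt_eq_iff V y).2 hyC]
        · rw [hρc, BlockCharsA.NormalSupport.blockCoeff_eq_zero
            (N := Subgroup.centralizer (V : Set L)) hM hV le_rfl hB hyC]
          simp
    rw [h1, h2, show ρ = ∑ χ ∈ S, (χ : L → ℂ) 1 • (χ : L → ℂ) from funext fun y => by
      simp [hρ], classInner_sum_left, Finset.sum_eq_single ψ (fun χ _ hne => by
        rw [classInner_smul_left, classInner_irr, if_neg hne, mul_zero])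
      (fun h => absurd (Finset.mem_filter.2 ⟨Finset.mem_univ _, hψB⟩) h),
      classInner_smul_left, classInner_irr, if_pos rfl, mul_one, hn]
  have hle' : ∑ χ, z χ ^ 2 ≤ (Nat.card V : ℤ) := by
    have := hsq ▸ hle
    exact_mod_cast this
  have hnn : ∀ χ, 0 ≤ z χ ^ 2 - if χ ∈ B then z χ else 0 := fun χ => by
    split
    · exact sub_nonneg.2 (Int.le_self_sq _)
    · simp [sq_nonneg]
  have hind : ∑ χ, (if χ ∈ B then z χ else 0) = Nat.card V := by rw [← Finset.sum_filter, hsum]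
  have hzero : ∀ χ, z χ ^ 2 - (if χ ∈ B then z χ else 0) = 0 := fun χ => by
    refine (Finset.sum_eq_zero_iff_of_nonneg fun ξ _ => hnn ξ).1 (le_antisymm ?_
      (Finset.sum_nonneg fun ξ _ => hnn ξ)) χ (Finset.mem_univ _)
    rw [Finset.sum_sub_distrib, hind]
    omega
  refine ⟨z, hz, fun χ => ?_, ?_, heq ?_⟩
  · have h := hzero χ
    split_ifs at h
    · have h' : z χ * (z χ - 1) = 0 := by linear_combination h
      exact (mul_eq_zero.1 h').imp id fun e => by omega
    · exact Or.inl ((pow_eq_zero_iff two_ne_zero).1 (by simpa using h))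
  · rw [← hind]
    refine Finset.sum_congr rfl fun χ _ => ?_
    have h := hzero χ
    split_ifs at h ⊢
    · rfl
    · exact (pow_eq_zero_iff two_ne_zero).1 (by simpa using h)
  · rw [← hsq, Finset.sum_congr rfl fun χ _ => sub_eq_zero.1 (hzero χ), hind]
    simp

/-- Distinct nice characters have disjoint weights. -/
theorem weights_orth (hp : p.Prime) (hV : IsPGroup p V) {ψ φ : Cfsg.IrrCharacter L} (hne : φ ≠ ψ)
    (hψ : Nice p V (ψ : L → ℂ)) (hφ : Nice p V (φ : L → ℂ))
    (hvan : ∀ x, x ∉ Subgroup.centralizer (V : Set L) → ¬ p ∣ orderOf x → (ψ : L → ℂ) x = 0) :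
    ∑ χ : Cfsg.IrrCharacter L, pairV p V (χ : L → ℂ) (ψ : L → ℂ) *
      conj (pairV p V (χ : L → ℂ) (φ : L → ℂ)) = 0 := by
  have h := sum_orth (p := p) (MonoidHom.id L) Function.injective_id 1
    (fun h => Commute.one_right _) (fun _ _ _ _ g _ => ⟨g, rfl⟩) V (ψ : L → ℂ) (φ : L → ℂ)
    (irr_isClassFunction φ)
  rw [Finset.sum_congr rfl (g := fun χ : Cfsg.IrrCharacter L => pairV p V (χ : L → ℂ) (ψ : L → ℂ) *
    conj (pairV p V (χ : L → ℂ) (φ : L → ℂ))) fun χ _ => by simp] at h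
  rw [h]
  calc (Nat.card L : ℂ)⁻¹ * ∑ y : L, (if p ∣ orderOf y then 0 else
        (wt V y : ℂ) ^ 2 * (conj ((ψ : L → ℂ) y) * (φ : L → ℂ) y))
      = (Nat.card V : ℂ) * pairV p V (φ : L → ℂ) (ψ : L → ℂ) := by
        rw [pairV, mul_left_comm (Nat.card V : ℂ), Finset.mul_sum (a := (Nat.card V : ℂ))]
        congr 1
        refine Finset.sum_congr rfl fun y _ => ?_
        by_cases hy : p ∣ orderOf y
        · simp [hy]
        rw [if_neg hy, if_neg hy]
        by_cases hyC : y ∈ Subgroup.centralizer (V : Set L)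
        · rw [(wt_eq_iff V y).2 hyC]; ring
        · simp [hvan y hyC hy]
    _ = 0 := by
        rw [← inner_eq_pairV hp hV hψ fun y v hv _ _ => hφ.1 y v hv, classInner_irr, if_neg hne,
          mul_zero]

end Cfsg.Agent.Blocks.EqualDegree
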