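import Mathlib
import Cfsg.Agent.Lib.Blocks.EqualDegree.Weights
import Cfsg.Agent.Lib.CharTheory.MajorContrib.Bounds

/-!
# Equal degrees force the normal abelian `p`-subgroup to be central

Let `V` be an abelian normal `p`-subgroup whose centraliser has index prime to `p`, and `ζ` a
character trivial on `V`, of full degree modulo `V`, with a single constituent on the centraliser.
If all the characters of the block of `ζ` have the degree of `ζ`, then `V` is central.
-/

set_option linter.style.haveILetI false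
set_option linter.unusedSectionVars false

namespace Cfsg.Agent.Blocks.EqualDegree

open Cfsg.Agent.Characters Cfsg.Agent.Blocks Cfsg.Agent.CharTheory
open Polynomial
open scoped ComplexConjugate

universe u

variable {G : Type u} [Group G] [Finite G] {p : ℕ} {M : Ideal Cfsg.AlgInt}

/-- A class function with a single constituent is a multiple of it. -/
theorem eq_smul_of_single {K : Type u} [Group K] [Fintype K] {f : K → ℂ}
    (hf : Cfsg.IsClassFunction K f) (θ : Cfsg.IrrCharacter K)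
    (h : ∀ η : Cfsg.IrrCharacter K, Cfsg.classInner f (η : K → ℂ) ≠ 0 → η = θ) :
    f = Cfsg.classInner f (θ : K → ℂ) • (θ : K → ℂ) := by
  haveI := Fintype.ofFinite (Cfsg.IrrCharacter K)
  conv_lhs => rw [classFun_eq_sum hf]
  exact Finset.sum_eq_single θ (fun η _ hne => by
    rw [not_not.1 fun e => hne (h η e), zero_smul]) (by simp)

section Core

variable (hM : Cfsg.IsPModular p M) {V : Subgroup G} [V.Normal] (hV : IsPGroup p V)
  {C : Subgroup G} [C.Normal] [Fintype C] (hC : C = Subgroup.centralizer (V : Set G)) (hVC : V ≤ C)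
  (ζ : Cfsg.IrrCharacter G) (htriv : ∀ v ∈ V, (ζ : G → ℂ) v = (ζ : G → ℂ) 1)
  (hfull : V.index.factorization p ≤ (Cfsg.charDegree (ζ : G → ℂ)).factorization p)
  (hd : ∀ χ ∈ Cfsg.blockOf M (ζ : G → ℂ),
    Cfsg.charDegree (χ : G → ℂ) = Cfsg.charDegree (ζ : G → ℂ))
  (θ : Cfsg.IrrCharacter C)
  (hθne : Cfsg.classInner (fun c : C => (ζ : G → ℂ) c) (θ : C → ℂ) ≠ 0)
  (hθ : ∀ η : Cfsg.IrrCharacter C,
    Cfsg.classInner (fun c : C => (ζ : G → ℂ) c) (η : C → ℂ) ≠ 0 → η = θ)
  {H : Subgroup G} [Fintype H] (hCH : C ≤ H)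

include hθ in
theorem single (ξ : Cfsg.IrrCharacter H)
    (hξ : Cfsg.classInner (fun h : H => (ζ : G → ℂ) h) (ξ : H → ℂ) ≠ 0)
    (η : Cfsg.IrrCharacter C)
    (hη : Cfsg.classInner (fun c : C => (ξ : H → ℂ) (Subgroup.inclusion hCH c)) (η : C → ℂ) ≠ 0) :
    η = θ :=
  hθ η (constituent_comp (Subgroup.inclusion hCH) (isCharacter_restrict H (irr_isCharacter ζ)) ξ.2
    (irr_isCharacter η) hξ hη)

include htriv hVC hCH in
theorem trivial_local (ξ : Cfsg.IrrCharacter H)
    (hξ : Cfsg.classInner (fun h : H => (ζ : G → ℂ) h) (ξ : H → ℂ) ≠ 0) :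
    ∀ w ∈ V.subgroupOf H, (ξ : H → ℂ) w = (ξ : H → ℂ) 1 := by
  haveI : (V.subgroupOf H).Normal := Subgroup.Normal.subgroupOf ‹V.Normal› H
  exact trivial_of_constituent _ (isCharacter_restrict H (irr_isCharacter ζ))
    (fun w hw => htriv (w : G) hw) ξ hξ

include hM hV hC hVC htriv hθne hθ hCH in
theorem over_facts [Fintype G] (ξ : Cfsg.IrrCharacter H)
    (hξ : Cfsg.classInner (fun h : H => (ζ : G → ℂ) h) (ξ : H → ℂ) ≠ 0)
    (ψ : Cfsg.IrrCharacter G)
    (hψ : Cfsg.classInner (fun h : H => (ψ : G → ℂ) h) (ξ : H → ℂ) ≠ 0) :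
    ψ ∈ Cfsg.blockOf M (ζ : G → ℂ) ∧ ∀ w ∈ V, (ψ : G → ℂ) w = (ψ : G → ℂ) 1 := by
  classical
  set ι := Subgroup.inclusion hCH
  have hVH : V ≤ H := hVC.trans hCH
  have hresψ : Cfsg.IsCharacter H (fun h : H => (ψ : G → ℂ) h) :=
    isCharacter_restrict H (irr_isCharacter ψ)
  obtain ⟨η, hη, hηne⟩ := Ito.exists_constituent (isCharacter_comp ι (irr_isCharacter ξ))
    (show (ξ : H → ℂ) (ι 1) ≠ 0 by rw [map_one]; exact irr_one_ne_zero ξ.2)
  have hηθ : (⟨η, hη⟩ : Cfsg.IrrCharacter C) = θ := single ζ θ hθ hCH ξ hξ ⟨η, hη⟩ hηne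
  have hψθ : Cfsg.classInner (fun c : C => (ψ : G → ℂ) c) (θ : C → ℂ) ≠ 0 := by
    rw [← hηθ]
    exact constituent_comp ι hresψ ξ.2 (isCharacter_of_isIrr hη) hψ hηne
  refine ⟨?_, ?_⟩
  · have hb := isPBlock_blockOf M θ
    have h1 := isInduced_of_covers (Q := V) hM hV hC.ge hb (isPBlock_blockOf M ζ) (mem_blockOf_self hM ζ) (mem_blockOf_self hM θ) hθne
    have h2 := isInduced_of_covers (Q := V) hM hV hC.ge hb (isPBlock_blockOf M ψ)
      (mem_blockOf_self hM ψ) (mem_blockOf_self hM θ) hψθ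
    rw [isInduced_unique hM h1 h2]
    exact mem_blockOf_self hM ψ
  · haveI := Fintype.ofFinite V
    have key : Cfsg.classInner (fun w : V => (ξ : H → ℂ) (Subgroup.inclusion hVH w))
        (trivIrr V : V → ℂ) ≠ 0 → ∀ w ∈ V, (ψ : G → ℂ) w = (ψ : G → ℂ) 1 := fun h => by
      have h' := constituent_comp (Subgroup.inclusion hVH) hresψ ξ.2
        (irr_isCharacter (trivIrr V)) hψ h
      exact (constituent_trivIrr_iff ψ).1 h'
    refine key ?_
    rw [show (fun w : V => (ξ : H → ℂ) (Subgroup.inclusion hVH w)) =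
        (ξ : H → ℂ) 1 • (trivIrr V : V → ℂ) from funext fun w => by
      simp [trivIrr, trivial_local hVC ζ htriv hCH ξ hξ (Subgroup.inclusion hVH w) w.2],
      classInner_smul_left, classInner_irr, if_pos rfl, mul_one]
    exact irr_one_ne_zero ξ.2
theorem exists_ind [Fintype G] [Fintype (Cfsg.IrrCharacter G)] (ξ : Cfsg.IrrCharacter H) :
    ∃ k : Cfsg.IrrCharacter G → ℕ,
      (∀ ψ : Cfsg.IrrCharacter G,
        Cfsg.classInner (fun h : H => (ψ : G → ℂ) h) (ξ : H → ℂ) = k ψ) ∧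
      Cfsg.indFun H (ξ : H → ℂ) = ∑ ψ : Cfsg.IrrCharacter G, (k ψ : ℂ) • (ψ : G → ℂ) := by
  choose k hk using fun ψ : Cfsg.IrrCharacter G =>
    classInner_char_nat (isCharacter_restrict H (irr_isCharacter ψ)) (irr_isCharacter ξ)
  refine ⟨k, hk, ?_⟩
  conv_lhs => rw [classFun_eq_sum (indFun_isClassFunction H (ξ : H → ℂ))]
  refine Finset.sum_congr rfl fun ψ _ => ?_
  rw [frobenius_reciprocity H (ξ : H → ℂ) (irr_isClassFunction ψ), classInner_conj_symm, hk,
    Complex.conj_natCast]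

include hM hV hC hVC htriv hθne hθ hd hCH in
theorem degree_bound [Fintype G] [Fintype (Cfsg.IrrCharacter G)] (hHidx : ¬ p ∣ H.index)
    (ξ : Cfsg.IrrCharacter H)
    (hξ : Cfsg.classInner (fun h : H => (ζ : G → ℂ) h) (ξ : H → ℂ) ≠ 0) :
    (Cfsg.charDegree (ζ : G → ℂ)).factorization p ≤
      (Cfsg.charDegree (ξ : H → ℂ)).factorization p := by
  obtain ⟨k, hk, hkeq⟩ := exists_ind (G := G) ξ
  have h1 : H.index * Cfsg.charDegree (ξ : H → ℂ) = ∑ ψ, k ψ * (Cfsg.charDegree (ζ : G → ℂ)) := by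
    apply Nat.cast_injective (R := ℂ)
    have e := congrFun hkeq 1
    rw [indFun_one, Finset.sum_apply] at e
    rw [Nat.cast_mul, charDegree_cast, e, Nat.cast_sum]
    refine Finset.sum_congr rfl fun ψ _ => ?_
    rw [Pi.smul_apply, smul_eq_mul, Nat.cast_mul]
    by_cases hk0 : k ψ = 0
    · simp [hk0]
    · rw [← hd ψ (over_facts hM hV hC hVC ζ htriv θ hθne hθ hCH ξ hξ ψ (by rw [hk]; exact Nat.cast_ne_zero.2 hk0)).1,
        charDegree_cast]
  have h2 : (Cfsg.charDegree (ζ : G → ℂ)) ∣ H.index * Cfsg.charDegree (ξ : H → ℂ) :=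
    h1 ▸ Finset.dvd_sum fun ψ _ => dvd_mul_left (Cfsg.charDegree (ζ : G → ℂ)) _
  have h3 := (Nat.factorization_le_iff_dvd (charDegree_pos ζ).ne'
    (mul_ne_zero H.index_ne_zero_of_finite (charDegree_pos ξ).ne')).2 h2 p
  rwa [Nat.factorization_mul H.index_ne_zero_of_finite (charDegree_pos ξ).ne', Finsupp.add_apply,
    Nat.factorization_eq_zero_of_not_dvd hHidx, zero_add] at h3

include hM hV hC hVC htriv hθne hθ hd hCH in
/-- One constituent has multiplicity prime to `p`. -/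
theorem exists_unit_constituent [Fintype G] [Fintype (Cfsg.IrrCharacter G)]
    [Fintype (Cfsg.IrrCharacter H)] (hHidx : ¬ p ∣ H.index) :
    ∃ (ξ : Cfsg.IrrCharacter H) (a : ℕ),
      Cfsg.classInner (fun h : H => (ζ : G → ℂ) h) (ξ : H → ℂ) = a ∧ ¬ p ∣ a := by
  have hp := hM.1
  have hresζ : Cfsg.IsCharacter H (fun h : H => (ζ : G → ℂ) h) :=
    isCharacter_restrict H (irr_isCharacter ζ)
  choose a ha using fun ξ : Cfsg.IrrCharacter H =>
    classInner_char_nat hresζ (irr_isCharacter ξ)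
  by_contra hne
  push Not at hne
  have h1 : (Cfsg.charDegree (ζ : G → ℂ)) = ∑ ξ, a ξ * Cfsg.charDegree (ξ : H → ℂ) := by
    apply Nat.cast_injective (R := ℂ)
    have e := congrFun (classFun_eq_sum (char_isClassFunction hresζ)) (1 : H)
    rw [Finset.sum_apply] at e
    rw [charDegree_cast, Nat.cast_sum]
    refine e.trans (Finset.sum_congr rfl fun ξ _ => ?_)
    rw [Pi.smul_apply, smul_eq_mul, ha, Nat.cast_mul, charDegree_cast]
  have h2 : p ^ ((Cfsg.charDegree (ζ : G → ℂ)).factorization p + 1) ∣ (Cfsg.charDegree (ζ : G → ℂ)) := by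
    conv_rhs => rw [h1]
    refine Finset.dvd_sum fun ξ _ => ?_
    rcases Nat.eq_zero_or_pos (a ξ) with h0 | h0
    · simp [h0]
    rw [pow_succ']
    exact Nat.mul_dvd_mul (hne ξ (a ξ) (ha ξ))
      ((pow_dvd_pow p (degree_bound hM hV hC hVC ζ htriv hd θ hθne hθ hCH hHidx ξ (by rw [ha]; exact Nat.cast_ne_zero.2 h0.ne'))).trans
        (Nat.ordProj_dvd _ p))
  have := (hp.pow_dvd_iff_le_factorization (charDegree_pos ζ).ne').1 h2
  omega

end Core

section Values

variable (hM : Cfsg.IsPModular p M) {V : Subgroup G} [V.Normal] (hV : IsPGroup p V)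
  {C : Subgroup G} [C.Normal] [Fintype C] (hC : C = Subgroup.centralizer (V : Set G)) (hVC : V ≤ C)
  (ζ : Cfsg.IrrCharacter G) (htriv : ∀ v ∈ V, (ζ : G → ℂ) v = (ζ : G → ℂ) 1)
  (hfull : V.index.factorization p ≤ (Cfsg.charDegree (ζ : G → ℂ)).factorization p)
  (hd : ∀ χ ∈ Cfsg.blockOf M (ζ : G → ℂ),
    Cfsg.charDegree (χ : G → ℂ) = Cfsg.charDegree (ζ : G → ℂ))
  (θ : Cfsg.IrrCharacter C)
  (hθne : Cfsg.classInner (fun c : C => (ζ : G → ℂ) c) (θ : C → ℂ) ≠ 0)
  (hθ : ∀ η : Cfsg.IrrCharacter C,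
    Cfsg.classInner (fun c : C => (ζ : G → ℂ) c) (η : C → ℂ) ≠ 0 → η = θ)

include hM hV hC hVC htriv hfull hd hθne hθ in
/-- The multiplicity is one and the constituent lives on the centraliser. -/
theorem unit_constituent_facts [Fintype G] [Fintype (Cfsg.IrrCharacter G)] {v : G} (hv : v ∈ V)
    {H : Subgroup G} [Fintype H] [Fintype (Cfsg.IrrCharacter H)] [(V.subgroupOf H).Normal]
    (hmemH : ∀ g : G, g ∈ H ↔ g * v = v * g) (hCH : C ≤ H) (ξ : Cfsg.IrrCharacter H) (a : ℕ)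
    (ha : Cfsg.classInner (fun h : H => (ζ : G → ℂ) h) (ξ : H → ℂ) = a) (hap : ¬ p ∣ a)
    (hξn : Nice p (V.subgroupOf H) (ξ : H → ℂ)) :
    a = 1 ∧ ∀ y : H, y ∉ Subgroup.centralizer (V.subgroupOf H : Set H) → ¬ p ∣ orderOf y →
      (ξ : H → ℂ) y = 0 := by
  classical
  haveI := fact_prime_of_pm hM
  have hp := hM.1
  set B := Cfsg.blockOf M (ζ : G → ℂ) with hBdef
  have hB : Cfsg.IsPBlock M B := isPBlock_blockOf M ζ
  have hζB : ζ ∈ B := mem_blockOf_self hM ζ
  set d := Cfsg.charDegree (ζ : G → ℂ) with hd_def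
  have hζn : Nice p V (ζ : G → ℂ) := nice_of_full hp V ζ htriv hfull
  obtain ⟨zζ, hzζ, hzζ01, hzζsum, hζvan⟩ := exists_weights hM hV hB hζB hζn hd
  have hVH : V ≤ H := hVC.trans hCH
  set VH := V.subgroupOf H with hVHdef
  have hVHp : IsPGroup p VH := hV.comap_of_injective _ H.subtype_injective
  have hξgen := isGen_of_isCharacter (irr_isCharacter ξ)
  have hξne : Cfsg.classInner (fun h : H => (ζ : G → ℂ) h) (ξ : H → ℂ) ≠ 0 := by
    rw [ha]
    exact Nat.cast_ne_zero.2 fun h => hap (h ▸ dvd_zero p)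
  -- `v` as a central element of `H`
  set vH : H := ⟨v, (hmemH _).2 rfl⟩
  have hvZ : vH ∈ Subgroup.center H := Subgroup.mem_center_iff.2 fun h =>
    Subtype.ext ((hmemH _).1 h.2)
  obtain ⟨n, hn⟩ := IsPGroup.iff_orderOf.1 hV ⟨v, hv⟩
  rw [Subgroup.orderOf_mk] at hn
  set q := p ^ n
  have hq : 0 < q := pow_pos hp.pos n
  haveI : NeZero q := ⟨hq.ne'⟩
  set ω := Complex.exp (2 * Real.pi * Complex.I / q)
  have hω : IsPrimitiveRoot ω q := Complex.isPrimitiveRoot_exp q hq.ne'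
  have hscal : ∀ (η : Cfsg.IrrCharacter H) (k : ℕ) (y : H),
      (η : H → ℂ) (y * vH ^ k) = centralRatio (η : H → ℂ) vH ^ k * (η : H → ℂ) y := by
    intro η k
    induction k with
    | zero => simp
    | succ k ih =>
      intro y
      rw [pow_succ, ← mul_assoc, (centralRatio_spec η hvZ).2, ih]
      ring
  have hroot : ∀ η : Cfsg.IrrCharacter H, ∃ j : ℕ, ω ^ j = centralRatio (η : H → ℂ) vH := by
    intro η
    have hvq : vH ^ q = 1 := Subtype.ext (by
      rw [SubgroupClass.coe_pow, OneMemClass.coe_one, ← hn]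
      exact pow_orderOf_eq_one v)
    have h := hscal η q 1
    rw [hvq, mul_one] at h
    obtain ⟨j, -, hj⟩ := hω.eq_pow_of_pow_eq_one (ξ := centralRatio (η : H → ℂ) vH)
      (by simpa [irr_one_ne_zero η.2] using h.symm)
    exact ⟨j, hj⟩
  choose j hj using hroot
  choose mult hmult using fun (χ : Cfsg.IrrCharacter G) (η : Cfsg.IrrCharacter H) =>
    classInner_char_nat (isCharacter_restrict H (irr_isCharacter χ)) (irr_isCharacter η)
  choose c hc using fun η : Cfsg.IrrCharacter H =>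
    pairV_int hVHp hξn hξgen (isGen_of_isCharacter (irr_isCharacter η))
  set Q : Cfsg.IrrCharacter G → ℤ[X] := fun χ =>
    ∑ η : Cfsg.IrrCharacter H, Polynomial.C ((mult χ η : ℤ) * c η) * X ^ j η
  have hQ : ∀ (χ : Cfsg.IrrCharacter G) (k : ℕ),
      pairV p VH (fun y : H => (χ : G → ℂ) (v ^ k * (y : G))) (ξ : H → ℂ) =
        aeval (ω ^ k) (Q χ) := by
    intro χ k
    have e : (fun y : H => (χ : G → ℂ) (v ^ k * (y : G))) = fun y => ∑ η : Cfsg.IrrCharacter H,
        ((mult χ η : ℂ) * centralRatio (η : H → ℂ) vH ^ k) * (η : H → ℂ) y := by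
      funext y
      have h := congrFun (classFun_eq_sum (char_isClassFunction
        (isCharacter_restrict H (irr_isCharacter χ)))) (vH ^ k * y)
      rw [Finset.sum_apply] at h
      rw [show v ^ k * (y : G) = ((vH ^ k * y : H) : G) by simp [vH]]
      refine h.trans (Finset.sum_congr rfl fun η _ => ?_)
      rw [Pi.smul_apply, smul_eq_mul, hmult, mul_assoc, ← hscal η k y]
      congr 1
      exact congrArg _ (Subgroup.mem_center_iff.1 ((Subgroup.center H).pow_mem hvZ k) y).symm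
    rw [e, pairV_sum, map_sum]
    refine Finset.sum_congr rfl fun η _ => ?_
    rw [hc η, map_mul, aeval_C, map_pow, aeval_X, algebraMap_int_eq, eq_intCast, Int.cast_mul,
      Int.cast_natCast, ← hj η, ← pow_mul, ← pow_mul, mul_comm k]
    ring
  -- the values at the trivial root
  have hQ1 : ∀ χ, zζ χ = 1 → aeval (1 : ℂ) (Q χ) = a := by
    intro χ hχ
    rw [show (1 : ℂ) = ω ^ 0 from (pow_zero ω).symm, ← hQ]
    simp only [pow_zero, one_mul]
    obtain ⟨m, hm₁, hm₂⟩ := CyclicCofactor.exists_regular_exp (K := G) (p := p) hp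
    have hdvd : Nat.card H ∣ Nat.card G := Subgroup.card_subgroup_dvd_card H
    rw [pairV_eq_inner_reg hVHp hξn (fun n hn => hm₁ n (hn.trans hdvd))
      (fun i hi => hm₂ i (hi.trans hdvd))]
    set h : G → ℂ := fun x => (χ : G → ℂ) (x ^ m)
    have hhc : Cfsg.IsClassFunction G h := fun x g => by
      show (χ : G → ℂ) ((g * x * g⁻¹) ^ m) = (χ : G → ℂ) (x ^ m)
      rw [conj_pow, irr_isClassFunction χ]
    obtain ⟨k, hk, hkeq⟩ := exists_ind (G := G) ξ
    rw [show (fun x : H => (χ : G → ℂ) ((x ^ m : H) : G)) = fun x : H => h x from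
      funext fun x => by simp [h], classInner_conj_symm (ξ : H → ℂ),
      ← frobenius_reciprocity H (ξ : H → ℂ) hhc, ← classInner_conj_symm, hkeq, classInner_sum_right]
    simp only [classInner_smul_right, Complex.conj_natCast]
    rw [Finset.sum_eq_single ζ]
    · rw [← pairV_eq_inner_reg hV hζn hm₁ hm₂, hzζ, hχ, Int.cast_one, mul_one]
      exact (hk ζ).symm.trans ha
    · intro ψ _ hne
      rcases Nat.eq_zero_or_pos (k ψ) with h0 | h0
      · simp [h0]
      obtain ⟨hψB, hψt⟩ := over_facts hM hV hC hVC ζ htriv θ hθne hθ hCH ξ hξne ψ (by rw [hk]; exact Nat.cast_ne_zero.2 h0.ne')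
      have hψn : Nice p V (ψ : G → ℂ) := nice_of_full hp V ψ hψt (by rw [hd ψ hψB]; exact hfull)
      obtain ⟨zψ, hzψ, hzψ01, -, -⟩ := exists_weights hM hV hB hψB hψn
        (fun χ hχ => (hd χ hχ).trans (hd ψ hψB).symm)
      have horth := weights_orth hp hV hne hζn hψn hζvan
      simp only [hzζ, hzψ, map_intCast] at horth
      have h0' : ∑ χ', zζ χ' * zψ χ' = 0 := by exact_mod_cast horth
      have hz := (Finset.sum_eq_zero_iff_of_nonneg fun χ' _ => by
        rcases hzζ01 χ' with e | e <;> rcases hzψ01 χ' with e' | e' <;> simp [e, e']).1 h0' χ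
        (Finset.mem_univ _)
      rw [hχ, one_mul] at hz
      rw [← pairV_eq_inner_reg hV hψn hm₁ hm₂, hzψ, hz]
      simp
    · exact fun h => absurd (Finset.mem_univ ζ) h
  have hzζζ : zζ ζ = 1 := by
    have h := hzζ ζ
    rw [← inner_eq_pairV hp hV hζn fun y w hw _ _ => hζn.1 y w hw, classInner_irr, if_pos rfl] at h
    exact_mod_cast h.symm
  have hQζ : ∀ k : ℕ, aeval (ω ^ k) (Q ζ) = a := by
    intro k
    rw [← hQ1 ζ hzζζ, ← hQ, show (1 : ℂ) = ω ^ 0 from (pow_zero ω).symm, ← hQ]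
    refine pairV_congr fun y _ => ?_
    have hc : Commute v (y : G) := ((hmemH _).1 y.2).symm
    rw [(hc.pow_left k).eq, (hc.pow_left 0).eq, hζn.1 _ _ (V.pow_mem hv k), pow_zero, mul_one]
  have hQne : ∀ χ, zζ χ = 1 → aeval ω (Q χ) ≠ 0 := by
    intro χ hχ h0
    have hωp : Cong M ω 1 := cong_one_of_pow_prime_pow hM (k := n) hω.pow_eq_one
    have hcong : Cong M (aeval ω (Q χ)) (aeval (1 : ℂ) (Q χ)) := by
      simp only [Q, map_sum, map_mul, aeval_C, map_pow, aeval_X, one_pow]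
      refine cong_sum hM fun η _ => cong_mul_left hM ?_ ?_
      · simpa only [Int.cast_mul, algebraMap_int_eq, eq_intCast] using
          ring_intCast hM ((mult χ η : ℤ) * c η)
      · refine cong_one_of_pow_prime_pow hM (k := n) ?_
        rw [← pow_mul, mul_comm, pow_mul, hω.pow_eq_one, one_pow]
    rw [h0, hQ1 χ hχ] at hcong
    have := (ideal_iff_of_cong hM hcong).1 (ideal_zero hM)
    exact hap (by exact_mod_cast (ideal_intCast_iff hM (a : ℤ)).1 (by simpa using this))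
  -- the norms
  have hupper : ∀ μ ∈ primitiveRoots q ℂ,
      ∑ χ, ‖aeval μ (Q χ)‖ ^ 2 = sq p VH (ξ : H → ℂ) := by
    intro μ hμ
    obtain ⟨k, -, hk, rfl⟩ := (hω.isPrimitiveRoot_iff (ξ := μ) (k := q)).1
      ((mem_primitiveRoots hq).1 hμ)
    simp_rw [← hQ]
    refine sum_normSq H.subtype H.subtype_injective (v ^ k)
      (fun h => (Commute.pow_right (((hmemH _).1 h.2) : Commute (h : G) v) k))
      ?_ VH _ (irr_isClassFunction ξ)
    intro y y' hy hy' g hg
    rw [Subgroup.range_subtype]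
    have hpk : ∃ i, orderOf (v ^ k) = p ^ i := by
      obtain ⟨i, -, hi⟩ := (Nat.dvd_prime_pow hp).1 (hn ▸ orderOf_pow_dvd k)
      exact ⟨i, hi⟩
    have hpp : ∀ z : H, ¬ p ∣ orderOf z → Cfsg.IsPPart p (v ^ k * (z : G)) (v ^ k) := fun z hz =>
      ⟨z, rfl, Commute.pow_left ((hmemH _).1 z.2).symm k, hpk,
        by rwa [Subgroup.orderOf_coe]⟩
    have h2 : Cfsg.IsPPart p (v ^ k * (y' : G)) (g * v ^ k * g⁻¹) := by
      obtain ⟨z, hz1, hz2, ⟨i, hi⟩, hz4⟩ := hpp y hy
      refine ⟨g * z * g⁻¹, ?_, ?_, ⟨i, ?_⟩, ?_⟩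
      · refine Eq.trans ?_ (show g * (v ^ k * (y : G)) * g⁻¹ = v ^ k * (y' : G) from hg)
        rw [← hz1]
        group
      · exact (Commute.conj_iff g).2 hz2
      · rwa [orderOf_conj_eq]
      · rwa [orderOf_conj_eq]
    have h3 : g * v ^ k * g⁻¹ = v ^ k := ppart_unique hp h2 (hpp y' hy')
    obtain ⟨i, hi⟩ := exists_pow_eq_self_of_coprime (x := v) (n := k) (by rwa [hn])
    rw [(hmemH _)]
    have hcm : Commute g (v ^ k) := mul_inv_eq_iff_eq_mul.1 h3
    exact (hi ▸ hcm.pow_right i : Commute g v)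
  obtain ⟨hsle, hseq⟩ := sq_le hp hVHp hξn (classInner_isIrr_self ξ.2)
  have hVcard : Nat.card VH = Nat.card V :=
    Nat.card_congr (Subgroup.subgroupOfEquivOfLe hVH).toEquiv
  rw [hVcard] at hsle hseq
  -- counting
  set N := ((primitiveRoots q ℂ).card : ℝ)
  have hN : 0 < N := Nat.cast_pos.2 (Finset.card_pos.2 ⟨ω, (mem_primitiveRoots hq).2 hω⟩)
  have hlow : ∀ χ, N * ((if χ = ζ then (a : ℝ) ^ 2 - 1 else 0) + (zζ χ : ℝ)) ≤
      ∑ μ ∈ primitiveRoots q ℂ, ‖aeval μ (Q χ)‖ ^ 2 := by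
    intro χ
    by_cases hχ : χ = ζ
    · subst hχ
      rw [if_pos rfl, hzζζ, Finset.sum_congr rfl (g := fun _ => (a : ℝ) ^ 2) fun μ hμ => ?_,
        Finset.sum_const, nsmul_eq_mul]
      · simp [N]
      · obtain ⟨k, -, -, rfl⟩ := (hω.isPrimitiveRoot_iff (ξ := μ) (k := q)).1
          ((mem_primitiveRoots hq).1 hμ)
        rw [hQζ k, Complex.norm_natCast]
    · rw [if_neg hχ, zero_add]
      rcases hzζ01 χ with e | e <;> rw [e]
      · simp only [Int.cast_zero, mul_zero]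
        exact Finset.sum_nonneg fun μ _ => sq_nonneg _
      · rw [Int.cast_one, mul_one]
        exact (MajorContrib.card_le_sum_norm_sq hq hω (Q χ) (hQne χ e)).1
  have htot := Finset.sum_le_sum fun χ (_ : χ ∈ (Finset.univ : Finset (Cfsg.IrrCharacter G))) =>
    hlow χ
  rw [Finset.sum_comm, Finset.sum_congr rfl hupper, Finset.sum_const, nsmul_eq_mul,
    ← Finset.mul_sum, Finset.sum_add_distrib, Finset.sum_ite_eq', if_pos (Finset.mem_univ _),
    ← Int.cast_sum, hzζsum, Int.cast_natCast] at htot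
  have htot' : (a : ℝ) ^ 2 - 1 + Nat.card V ≤ sq p VH (ξ : H → ℂ) :=
    le_of_mul_le_mul_left htot hN
  have ha0 : 0 < a := Nat.pos_of_ne_zero fun h => hap (h ▸ dvd_zero p)
  have ha1 : a = 1 := by
    have h : (a : ℝ) ^ 2 ≤ 1 := by linarith
    have h' : a ^ 2 ≤ 1 := by exact_mod_cast h
    nlinarith
  exact ⟨ha1, hseq (le_antisymm hsle (by rw [ha1] at htot'; simpa using htot'))⟩

end Values

/-- The core of the equal degree theorem. -/
theorem centralizer_eq_top_of_equal_degrees (hM : Cfsg.IsPModular p M) {V : Subgroup G}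
    [V.Normal] (hV : IsPGroup p V) {C : Subgroup G} [C.Normal] [Fintype C]
    (hC : C = Subgroup.centralizer (V : Set G)) (hVC : V ≤ C) (hidx : ¬ p ∣ C.index)
    (ζ : Cfsg.IrrCharacter G) (htriv : ∀ v ∈ V, (ζ : G → ℂ) v = (ζ : G → ℂ) 1)
    (hfull : V.index.factorization p ≤ (Cfsg.charDegree (ζ : G → ℂ)).factorization p)
    (hd : ∀ χ ∈ Cfsg.blockOf M (ζ : G → ℂ),
      Cfsg.charDegree (χ : G → ℂ) = Cfsg.charDegree (ζ : G → ℂ))
    (hθ' : ∀ η η' : Cfsg.IrrCharacter C,
      Cfsg.classInner (fun c : C => (ζ : G → ℂ) c) (η : C → ℂ) ≠ 0 →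
      Cfsg.classInner (fun c : C => (ζ : G → ℂ) c) (η' : C → ℂ) ≠ 0 → η = η') :
    C = ⊤ := by
  classical
  haveI := fact_prime_of_pm hM
  have hp := hM.1
  haveI := Fintype.ofFinite G
  haveI := Fintype.ofFinite (Cfsg.IrrCharacter G)
  have hζn : Nice p V (ζ : G → ℂ) := nice_of_full hp V ζ htriv hfull
  obtain ⟨-, -, -, -, hζvan⟩ :=
    exists_weights hM hV (isPBlock_blockOf M ζ) (mem_blockOf_self hM ζ) hζn hd
  rw [← hC] at hζvan
  obtain ⟨θ, hθne⟩ := BlockCharsA.NormalSupport.exists_under (N := C) ζ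
  have hθ : ∀ η : Cfsg.IrrCharacter C,
      Cfsg.classInner (fun c : C => (ζ : G → ℂ) c) (η : C → ℂ) ≠ 0 → η = θ :=
    fun η hη => hθ' η θ hη hθne
  rw [eq_top_iff]
  rintro g -
  rw [hC]
  intro v hv
  set H := Subgroup.centralizer ({v} : Set G) with hHdef
  haveI := Fintype.ofFinite H
  haveI := Fintype.ofFinite (Cfsg.IrrCharacter H)
  suffices hH : H = ⊤ by
    exact (Subgroup.mem_centralizer_singleton_iff.1 (hH ▸ Subgroup.mem_top g : g ∈ H)).symm
  have hCH : C ≤ H := fun c hc => Subgroup.mem_centralizer_singleton_iff.2 ((hC ▸ hc : c ∈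
    Subgroup.centralizer (V : Set G)) v hv).symm
  have hVH : V ≤ H := hVC.trans hCH
  haveI : (V.subgroupOf H).Normal := Subgroup.Normal.subgroupOf ‹V.Normal› H
  have hHidx : ¬ p ∣ H.index := fun h => hidx (h.trans (Subgroup.index_dvd_of_le hCH))
  obtain ⟨ξ, a, ha, hap⟩ :=
    exists_unit_constituent hM hV hC hVC ζ htriv hd θ hθne hθ hCH hHidx
  have hξne : Cfsg.classInner (fun h : H => (ζ : G → ℂ) h) (ξ : H → ℂ) ≠ 0 := by
    rw [ha]
    exact Nat.cast_ne_zero.2 fun h => hap (h ▸ dvd_zero p)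
  have hξn : Nice p (V.subgroupOf H) (ξ : H → ℂ) := by
    refine nice_of_full hp _ ξ (trivial_local hVC ζ htriv hCH ξ hξne)
      (le_trans ?_ (degree_bound hM hV hC hVC ζ htriv hd θ hθne hθ hCH hHidx ξ hξne))
    refine le_trans ?_ hfull
    exact (Nat.factorization_le_iff_dvd (V.subgroupOf H).index_ne_zero_of_finite
      V.index_ne_zero_of_finite).2 (Dvd.intro H.index (Subgroup.relIndex_mul_index hVH)) p
  obtain ⟨ha1, hξvan⟩ := unit_constituent_facts hM hV hC hVC ζ htriv hfull hd θ hθne hθ hv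
    (fun g => Subgroup.mem_centralizer_singleton_iff) hCH ξ a ha hap hξn
  set ι := Subgroup.inclusion hCH
  set VH := V.subgroupOf H
  -- both live on `C`
  have hCout : ∀ x : H, (x : G) ∉ C → (ξ : H → ℂ) x = 0 := by
    intro x hx
    obtain ⟨b, hb⟩ := exists_ppart hp x
    by_cases hbV : b ∈ VH
    · obtain ⟨y, hxy, hc, -, hy⟩ := id hb
      rw [← hxy, hc.eq, hξn.1 y b hbV]
      refine hξvan y (fun hyC => hx ?_) hy
      rw [← hxy, Subgroup.coe_mul]
      exact C.mul_mem (hVC hbV) (hC.ge fun w hw => congrArg Subtype.val (hyC ⟨w, hVH hw⟩ hw))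
    · exact hξn.2 x b hb hbV
  have hζout : ∀ x : G, x ∉ C → (ζ : G → ℂ) x = 0 := by
    intro x hx
    obtain ⟨b, hb⟩ := exists_ppart hp x
    by_cases hbV : b ∈ V
    · obtain ⟨y, hxy, hc, -, hy⟩ := id hb
      rw [← hxy, hc.eq, hζn.1 y b hbV]
      refine hζvan y (fun hyC => hx ?_) hy
      rw [← hxy]
      exact C.mul_mem (hVC hbV) hyC
    · exact hζn.2 x b hb hbV
  obtain ⟨y, hy⟩ := classInner_char_nat (isCharacter_restrict C (irr_isCharacter ζ))
    (irr_isCharacter θ)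
  obtain ⟨x, hx⟩ := classInner_char_nat (isCharacter_comp ι (irr_isCharacter ξ))
    (irr_isCharacter θ)
  have hζC : ∀ c : C, (ζ : G → ℂ) c = (y : ℂ) * (θ : C → ℂ) c := fun c => by
    have h := congrFun (eq_smul_of_single (char_isClassFunction
      (isCharacter_restrict C (irr_isCharacter ζ))) θ hθ) c
    rw [hy] at h
    exact h
  have hξC : ∀ c : C, (ξ : H → ℂ) (ι c) = (x : ℂ) * (θ : C → ℂ) c := fun c => by
    have h := congrFun (eq_smul_of_single (char_isClassFunction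
      (isCharacter_comp ι (irr_isCharacter ξ))) θ (single ζ θ hθ hCH ξ hξne)) c
    rw [show Cfsg.classInner ((ξ : H → ℂ) ∘ ι) (θ : C → ℂ) = _ from hx] at h
    exact h
  have hθsum : ∑ c : C, (θ : C → ℂ) c * conj ((θ : C → ℂ) c) = (Nat.card C : ℂ) := by
    have h := classInner_isIrr_self θ.2
    rwa [classInner_def, inv_mul_eq_iff_eq_mul₀ natCard_ne_zero, mul_one] at h
  have hincl : Function.Injective ι := Subgroup.inclusion_injective hCH
  have hHsum : ∀ (f f' : H → ℂ) (r r' : ℂ), (∀ h : H, (h : G) ∉ C → f' h = 0) →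
      (∀ c : C, f (ι c) = r * (θ : C → ℂ) c) → (∀ c : C, f' (ι c) = r' * (θ : C → ℂ) c) →
      (Nat.card H : ℂ) * Cfsg.classInner f f' = r * conj r' * (Nat.card C : ℂ) := by
    intro f f' r r' h0 hf hf'
    rw [classInner_def, mul_inv_cancel_left₀ natCard_ne_zero, ← hθsum, Finset.mul_sum]
    refine (Fintype.sum_of_injective ι hincl _ _ (fun h hh => ?_) fun c => ?_).symm
    · rw [h0 h fun hC' => hh ⟨⟨h, hC'⟩, Subtype.ext rfl⟩, map_zero, mul_zero]
    · rw [hf, hf', map_mul]; ring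
  have e1 := hHsum (fun h : H => (ζ : G → ℂ) h) (ξ : H → ℂ) y x hCout
    (fun c => hζC c) hξC
  have e2 := hHsum (ξ : H → ℂ) (ξ : H → ℂ) x x hCout hξC hξC
  rw [ha, ha1, Nat.cast_one, mul_one, Complex.conj_natCast] at e1
  rw [classInner_isIrr_self ξ.2, mul_one, Complex.conj_natCast] at e2
  have e3 : (Nat.card G : ℂ) = y * y * (Nat.card C : ℂ) := by
    have h := classInner_isIrr_self ζ.2
    rw [classInner_def, inv_mul_eq_iff_eq_mul₀ natCard_ne_zero, mul_one] at h
    rw [← h, ← hθsum, Finset.mul_sum]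
    refine (Fintype.sum_of_injective (fun c : C => (c : G)) Subtype.val_injective _ _
      (fun g hg => ?_) fun c => ?_).symm
    · rw [hζout g fun h => hg ⟨⟨g, h⟩, rfl⟩, zero_mul]
    · simp only [hζC, map_mul, Complex.conj_natCast]; ring
  norm_cast at e1 e2 e3
  have hx0 : x ≠ 0 := fun h => by
    rw [h, zero_mul, zero_mul] at e2
    exact Nat.card_pos.ne' e2
  have hxy : x = y := by
    have h := e2.symm.trans e1
    have h2 := Nat.eq_of_mul_eq_mul_right Nat.card_pos h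
    exact Nat.eq_of_mul_eq_mul_right (Nat.pos_of_ne_zero hx0) h2
  subst hxy
  exact Subgroup.eq_top_of_card_eq H (e2.trans e3.symm)

end Cfsg.Agent.Blocks.EqualDegree
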