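import Mathlib
import Cfsg.Agent.Lib.Blocks.BrauerChar.Blocks
import Cfsg.Agent.BlockCharsA.CyclicDefect.Main
import Cfsg.Agent.BlockCharsA.RankOneSmall.Lift

/-!
# Equal degrees in a block: one Brauer character and a corner of rank one

If all characters of a block have the same degree, they agree on the regular elements, and the
values at a primitive idempotent of the block are one.
-/

set_option linter.style.haveILetI false
set_option linter.unusedSectionVars false

namespace Cfsg.Agent.Blocks.EqualDegree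

open Cfsg.Agent.Blocks Cfsg.Agent.Characters Cfsg.Agent.Blocks.Star Cfsg.Agent.Blocks.BrauerChar
open MonoidAlgebra
open scoped ComplexConjugate

universe u

variable {G : Type u} [Group G] [Finite G] {p : ℕ} {M : Ideal Cfsg.AlgInt}

/-- The coefficient at one through the characters. -/
theorem coeff_one_chars [Fintype (Cfsg.IrrCharacter G)] (w : MonoidAlgebra ℂ G) :
    (Nat.card G : ℂ) * w.coeff 1 =
      ∑ χ : Cfsg.IrrCharacter G, (χ : G → ℂ) 1 * evalChar (χ : G → ℂ) w := by
  classical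
  haveI := Fintype.ofFinite G
  have h : ∀ χ : Cfsg.IrrCharacter G, (χ : G → ℂ) 1 * evalChar (χ : G → ℂ) w =
      ∑ g : G, w.coeff g * ((χ : G → ℂ) g * conj ((χ : G → ℂ) 1)) := fun χ => by
    rw [evalChar_eq_sum, Finset.mul_sum, ← char_inv (irr_isCharacter χ), inv_one]
    exact Finset.sum_congr rfl fun g _ => by ring
  simp only [h]
  rw [Finset.sum_comm]
  simp only [← Finset.mul_sum, second_orthogonality, isConj_one_left, mul_ite, mul_zero,
    Finset.sum_ite_eq', Finset.mem_univ, if_true]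
  rw [mul_comm]
  congr 2
  refine (Nat.card_congr (Equiv.subtypeUnivEquiv fun x => ?_)).symm
  exact Subgroup.mem_centralizer_singleton_iff.2 (by simp)

/-- The coefficients through the characters. -/
theorem coeff_via_chars [Fintype (Cfsg.IrrCharacter G)] (z : MonoidAlgebra ℂ G) (g : G) :
    z.coeff g = (Nat.card G : ℂ)⁻¹ * ∑ χ : Cfsg.IrrCharacter G,
      (χ : G → ℂ) 1 * evalChar (χ : G → ℂ) (z * single g⁻¹ 1) := by
  haveI := Fintype.ofFinite G
  rw [← coeff_one_chars, ← mul_assoc, inv_mul_cancel₀ natCard_ne_zero, one_mul, coeff_mul_single',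
    inv_inv, one_mul, mul_one]

/-- An element acting as scalars is the central element with these scalars. -/
theorem eq_fourier {z : MonoidAlgebra ℂ G} {c : Cfsg.IrrCharacter G → ℂ}
    (h : ∀ (χ : Cfsg.IrrCharacter G) (g : G),
      evalChar (χ : G → ℂ) (z * single g 1) = c χ * (χ : G → ℂ) g) : z = fourier c := by
  haveI := Fintype.ofFinite (Cfsg.IrrCharacter G)
  refine el_ext fun g => ?_
  rw [coeff_via_chars z g, coeff_fourier]
  congr 1
  refine Finset.sum_congr rfl fun χ _ => ?_
  rw [h, char_inv (irr_isCharacter χ)]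
  ring

/-! ### Sets of characters of equal degree that agree on the regular elements -/

section Equal

variable [Fintype (Cfsg.IrrCharacter G)] {A : Set (Cfsg.IrrCharacter G)} [DecidablePred (· ∈ A)]
  {d : ℕ} {φ : G → ℂ}

theorem blockCoeff_filter (hd : ∀ η ∈ A, Cfsg.charDegree (η : G → ℂ) = d) (g : G) :
    Cfsg.blockCoeff A g = (Nat.card G : ℂ)⁻¹ * ((d : ℂ) *
      conj (∑ η ∈ Finset.univ.filter (· ∈ A), (η : G → ℂ) g)) := by
  classical
  rw [blockCoeff_eq_sum, Finset.sum_filter, map_sum]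
  simp only [Finset.mul_sum]
  refine Finset.sum_congr rfl fun η _ => ?_
  by_cases hη : η ∈ A
  · rw [if_pos hη, if_pos hη, ← charDegree_cast, hd η hη]
  · simp [hη]

/-- The factor of the coefficients of the idempotent. -/
theorem ring_card_deg (hM : Cfsg.IsPModular p M)
    (hd : ∀ η ∈ A, Cfsg.charDegree (η : G → ℂ) = d)
    (hvan : ∀ x : G, p ∣ orderOf x →
      ∑ η ∈ Finset.univ.filter (· ∈ A), (η : G → ℂ) x = 0) :
    p ^ (Nat.card G).factorization p ∣ Nat.card A * d ∧
      Cfsg.MemLocalRing M ((Nat.card A : ℂ) * (d : ℂ) / (Nat.card G : ℂ)) := by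
  classical
  have h := BlockCharsA.CyclicDefect.pow_dvd_sum_of_vanish hM (fun η : A => (η : Cfsg.IrrCharacter G))
    (fun _ => 1) fun x hx => by
      rw [← hvan x hx]
      simp only [Int.cast_one, one_mul]
      exact (Finset.sum_subtype (p := (· ∈ A)) (Finset.univ.filter (· ∈ A))
        (fun η => by simp) fun η => (η : G → ℂ) x).symm
  simp only [one_mul, fun η : A => hd η η.2, Finset.sum_const, Finset.card_univ,
    ← Nat.card_eq_fintype_card, nsmul_eq_mul, ← Nat.cast_mul, Int.natCast_dvd_natCast] at h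
  refine ⟨h, ?_⟩
  obtain ⟨q, hq⟩ := h
  have hG := (Nat.card_pos (α := G)).ne'
  set m := Nat.card G / p ^ (Nat.card G).factorization p
  have hcard : (Nat.card G : ℂ) = ((p ^ (Nat.card G).factorization p : ℕ) : ℂ) * (m : ℂ) := by
    rw [← Nat.cast_mul]
    exact congrArg Nat.cast (Nat.ordProj_mul_ordCompl_eq_self _ p).symm
  have e : (Nat.card A : ℂ) * (d : ℂ) / (Nat.card G : ℂ) = (q : ℂ) * (m : ℂ)⁻¹ := by
    rw [← Nat.cast_mul, hq, Nat.cast_mul, hcard,
      mul_div_mul_left _ _ (Nat.cast_ne_zero.2 (pow_ne_zero _ hM.1.ne_zero)), div_eq_mul_inv]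
  rw [e]
  exact ring_mul hM (ring_natCast hM q) (ring_inv_natCast hM (Nat.not_dvd_ordCompl hM.1 hG))

theorem coeff_singular (hd : ∀ η ∈ A, Cfsg.charDegree (η : G → ℂ) = d)
    (hvan : ∀ x : G, p ∣ orderOf x →
      ∑ η ∈ Finset.univ.filter (· ∈ A), (η : G → ℂ) x = 0)
    {g : G} (hg : p ∣ orderOf g) : Cfsg.blockCoeff A g = 0 := by
  rw [blockCoeff_filter hd, hvan g hg, map_zero, mul_zero, mul_zero]

theorem coeff_regular (hd : ∀ η ∈ A, Cfsg.charDegree (η : G → ℂ) = d)
    (hreg : ∀ η ∈ A, ∀ s : G, ¬ p ∣ orderOf s → (η : G → ℂ) s = φ s)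
    {g : G} (hg : ¬ p ∣ orderOf g) :
    Cfsg.blockCoeff A g = (Nat.card A : ℂ) * (d : ℂ) / (Nat.card G : ℂ) * conj (φ g) := by
  classical
  rw [blockCoeff_filter hd, Finset.sum_congr rfl fun η hη =>
      hreg η (Finset.mem_filter.1 hη).2 g hg,
    Finset.sum_const, ← Fintype.card_subtype, ← Nat.card_eq_fintype_card, nsmul_eq_mul, map_mul,
    Complex.conj_natCast]
  ring

/-- Equal degrees, equal values at regular elements and vanishing at the singular ones give an
integral idempotent. -/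
theorem intEl_equal (hM : Cfsg.IsPModular p M) (hd : ∀ η ∈ A, Cfsg.charDegree (η : G → ℂ) = d)
    (hreg : ∀ η ∈ A, ∀ s : G, ¬ p ∣ orderOf s → (η : G → ℂ) s = φ s)
    (hvan : ∀ x : G, p ∣ orderOf x →
      ∑ η ∈ Finset.univ.filter (· ∈ A), (η : G → ℂ) x = 0)
    {η₀ : Cfsg.IrrCharacter G} (h₀ : η₀ ∈ A) : IntEl M (blockIdem A) := fun g => by
  rw [coeff_blockIdem]
  by_cases hg : p ∣ orderOf g
  · rw [coeff_singular hd hvan hg]
    exact ring_zero hM
  · rw [coeff_regular hd hreg hg, ← hreg η₀ h₀ g hg]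
    exact ring_mul hM (ring_card_deg hM hd hvan).2 (irr_conj_ring hM η₀ g)

/-- The sum of the characters of a block of equal degrees vanishes at the singular elements. -/
theorem van_of_block (hM : Cfsg.IsPModular p M) (hA : Cfsg.IsPBlock M A)
    (hd : ∀ η ∈ A, Cfsg.charDegree (η : G → ℂ) = d) (x : G) (hx : p ∣ orderOf x) :
    ∑ η ∈ Finset.univ.filter (· ∈ A), (η : G → ℂ) x = 0 := by
  classical
  obtain ⟨η₀, h₀⟩ := block_nonempty hM hA
  have hd0 : (d : ℂ) ≠ 0 := Nat.cast_ne_zero.2 (hd η₀ h₀ ▸ (charDegree_pos η₀).ne')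
  haveI := Fintype.ofFinite G
  have h := blockCoeff_eq_zero_of_singular hM (intEl_blockIdem hM hA) hx
  rw [blockCoeff_filter hd, mul_eq_zero, or_iff_right (inv_ne_zero natCard_ne_zero),
    mul_eq_zero, or_iff_right hd0, map_eq_zero] at h
  exact h

end Equal

/-! ### One Brauer character -/

variable (hM : Cfsg.IsPModular p M) {B : Set (Cfsg.IrrCharacter G)} {d : ℕ}

include hM in
/-- Equal degrees give one class of primitive idempotents, each character taking the value one. -/
theorem exists_single (hB : Cfsg.IsPBlock M B)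
    (hd : ∀ η ∈ B, Cfsg.charDegree (η : G → ℂ) = d) :
    ∃ c : Cls G hM, InA hM B c ∧ (∀ c', InA hM B c' → c' = c) ∧
      ∀ η ∈ B, evalChar (η : G → ℂ) (pi hM c) = 1 ∧
        ∀ s : G, ¬ p ∣ orderOf s → (η : G → ℂ) s = ext p (ibr hM c) s := by
  classical
  haveI := Fintype.ofFinite G
  haveI := Fintype.ofFinite (Cfsg.IrrCharacter G)
  have hint := intEl_blockIdem hM hB
  obtain ⟨η₀, h₀⟩ := block_nonempty hM hB
  have hd0 : 0 < d := hd η₀ h₀ ▸ charDegree_pos η₀
  have h1 : ¬ p ∣ orderOf (1 : G) := by simp [hM.1.ne_one]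
  -- every degree of a Brauer character is a multiple of `d`
  have hdeg : ∀ c, InA hM B c → d ≤ deg hM c := by
    intro c hc
    choose z hz using fun η : Cfsg.IrrCharacter G => classInner_gen_int (isGen_lift hM c)
      (isGen_of_isCharacter (irr_isCharacter η))
    have h : (deg hM c : ℂ) = ((∑ η ∈ Finset.univ.filter (· ∈ B), z η : ℤ) : ℂ) * (d : ℂ) := by
      rw [← ext_ibr_one, ibr_eq_sum hM hint hc, map_sum, Finset.sum_apply, Int.cast_sum,
        Finset.sum_mul]
      refine Finset.sum_congr rfl fun η hη => ?_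
      rw [map_smul, Pi.smul_apply, smul_eq_mul, hz, ext_res (irr_isClassFunction η) h1,
        ← charDegree_cast, hd η (Finset.mem_filter.1 hη).2]
    have h' : (deg hM c : ℤ) = (∑ η ∈ Finset.univ.filter (· ∈ B), z η) * d := by exact_mod_cast h
    refine Nat.le_of_dvd (deg_pos hM c) (Int.natCast_dvd_natCast.1 ?_)
    rw [h']
    exact dvd_mul_left _ _
  -- each character has one constituent
  have hone : ∀ η ∈ B, ∃ c, InA hM B c ∧ rk hM c η = 1 ∧ ∀ c', c' ≠ c → rk hM c' η = 0 := by
    intro η hη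
    have hs := charDegree_eq_sum hM η
    rw [hd η hη] at hs
    obtain ⟨c, hc⟩ : ∃ c, rk hM c η ≠ 0 := by
      by_contra hno
      push Not at hno
      rw [Finset.sum_eq_zero fun c _ => by rw [hno c, zero_mul]] at hs
      omega
    have hcA : InA hM B c := by
      by_contra hn
      exact hc (rk_eq_zero hM hint fun h => hn (h.1 hη))
    have hge := hdeg c hcA
    have hsplit := Finset.sum_erase_add Finset.univ (fun c' => rk hM c' η * deg hM c')
      (Finset.mem_univ c)
    have hr : rk hM c η = 1 := by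
      have h2 : rk hM c η * d ≤ rk hM c η * deg hM c := Nat.mul_le_mul_left _ hge
      have h3 : rk hM c η * d ≤ 1 * d := by omega
      have := Nat.le_of_mul_le_mul_right h3 hd0
      omega
    refine ⟨c, hcA, hr, fun c' hc' => ?_⟩
    rw [hr] at hsplit
    have h4 : ∑ x ∈ Finset.univ.erase c, rk hM x η * deg hM x = 0 := by omega
    have h5 := Finset.sum_eq_zero_iff.1 h4 c' (by simp [hc'])
    exact (Nat.mul_eq_zero.1 h5).resolve_right (deg_pos hM c').ne'
  obtain ⟨c, hcA, hc1, hc0⟩ := hone η₀ h₀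
  have hval : ∀ η ∈ B, rk hM c η ≠ 0 → rk hM c η = 1 ∧
      ∀ s : G, ¬ p ∣ orderOf s → (η : G → ℂ) s = ext p (ibr hM c) s := by
    intro η hη hne
    obtain ⟨c', -, h1', h0'⟩ := hone η hη
    obtain rfl : c = c' := by_contra fun h => hne (h0' c h)
    refine ⟨h1', fun s hs => ?_⟩
    rw [← ext_res (p := p) (irr_isClassFunction η) hs, res_irr hM,
      Finset.sum_eq_single c (fun x _ hx => by rw [h0' x hx, Nat.cast_zero, zero_smul]) (by simp),
      h1', Nat.cast_one, one_smul]
  set S : Set (Cfsg.IrrCharacter G) := {η | η ∈ B ∧ rk hM c η ≠ 0} with hS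
  have hSd : ∀ η ∈ S, Cfsg.charDegree (η : G → ℂ) = d := fun η h => hd η h.1
  have hSvan : ∀ x : G, p ∣ orderOf x →
      ∑ η ∈ Finset.univ.filter (· ∈ S), (η : G → ℂ) x = 0 := by
    intro x hx
    rw [← sum_rk_singular hM hint c hx,
      ← Finset.sum_filter_ne_zero (s := Finset.univ.filter (· ∈ B))]
    symm
    refine Finset.sum_congr_of_eq_on_inter (fun η h1 h2 => ?_) (fun η h1 h2 => ?_) fun η h1 h2 => ?_
    · simp only [Finset.mem_filter, Finset.mem_univ, true_and] at h1 h2
      refine absurd ⟨h1.1, fun h0 => h1.2 ?_⟩ h2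
      rw [h0, Nat.cast_zero, zero_mul]
    · simp only [Finset.mem_filter, Finset.mem_univ, true_and, ne_eq] at h1 h2
      rw [hS] at h1
      push Not at h2
      have := h2 h1.1
      rwa [(hval η h1.1 h1.2).1, Nat.cast_one, one_mul] at this
    · simp only [Finset.mem_filter, Finset.mem_univ, true_and] at h2
      rw [(hval η h2.1 h2.2).1, Nat.cast_one, one_mul]
  have h₀S : η₀ ∈ S := ⟨h₀, by omega⟩
  have hSB : B ⊆ S := by
    rw [block_eq_blockOf hM hB h₀]
    exact blockOf_subset_of_intEl hM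
      (intEl_equal hM hSd (fun η h => (hval η h.1 h.2).2) hSvan h₀S) h₀S
  have hall : ∀ η ∈ B, evalChar (η : G → ℂ) (pi hM c) = 1 ∧
      ∀ s : G, ¬ p ∣ orderOf s → (η : G → ℂ) s = ext p (ibr hM c) s := fun η hη => by
    obtain ⟨h1, h2⟩ := hval η hη (hSB hη).2
    exact ⟨by rw [evalChar_pi, h1, Nat.cast_one], h2⟩
  refine ⟨c, hcA, fun c' hc' => ?_, hall⟩
  by_contra hne
  have h := evalChar_ibr hM c' c'
  rw [if_pos rfl, ibr_eq_sum hM hint hc', map_sum] at h
  simp only [map_smul, evalChar_eq_sum, Finset.sum_apply, Pi.smul_apply, smul_eq_mul,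
    Finset.mul_sum] at h
  rw [Finset.sum_comm, Finset.sum_eq_zero fun η hη => ?_] at h
  · exact zero_ne_one h
  · have h2 : evalChar (ext p (res p (η : G → ℂ))) (pi hM c') = 0 := by
      rw [evalChar_res hM (irr_isClassFunction η) (intEl_pi hM c') (pi_idem hM c'), evalChar_pi]
      obtain ⟨c'', -, h1', h0'⟩ := hone η (Finset.mem_filter.1 hη).2
      obtain rfl : c = c'' := by_contra fun h => (hSB (Finset.mem_filter.1 hη).2).2 (h0' c h)
      rw [h0' c' hne, Nat.cast_zero]
    simp only [mul_left_comm _ (Cfsg.classInner _ _), ← Finset.mul_sum]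
    rw [evalChar_eq_sum] at h2
    rw [h2, mul_zero]

/-! ### The corner of rank one -/

/-- At an idempotent of value one the character is multiplicative. -/
theorem evalChar_rank_one (χ : Cfsg.IrrCharacter G) {j : MonoidAlgebra ℂ G} (hj : j * j = j)
    (h1 : evalChar (χ : G → ℂ) j = 1) {a b : MonoidAlgebra ℂ G} (ha : j * a = a) (hb : j * b = b) :
    evalChar (χ : G → ℂ) (a * b) = evalChar (χ : G → ℂ) a * evalChar (χ : G → ℂ) b := by
  obtain ⟨χ, n, ρ, hρ, rfl⟩ := χ
  simp only [evalChar_eq_trace, map_mul] at h1 ⊢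
  set P := ρ.asAlgebraHom j with hP
  set X := ρ.asAlgebraHom a
  set Y := ρ.asAlgebraHom b
  have hX : P * X = X := by rw [hP, ← map_mul, ha]
  have hY : P * Y = Y := by rw [hP, ← map_mul, hb]
  have hPP : P * P = P := by rw [hP, ← map_mul, hj]
  have hproj : LinearMap.IsProj (LinearMap.range P) P := by
    refine ⟨fun x => LinearMap.mem_range_self _ x, ?_⟩
    rintro _ ⟨y, rfl⟩
    exact DFunLike.congr_fun hPP y
  rw [hproj.trace, Nat.cast_eq_one] at h1
  obtain ⟨v, hv, hspan⟩ := finrank_eq_one_iff'.1 h1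
  set e := (LinearEquiv.toSpanNonzeroSingleton ℂ (LinearMap.range P) v hv).trans
    (LinearEquiv.ofEq _ _ (eq_top_iff.2 fun w _ =>
      Submodule.mem_span_singleton.2 (hspan w))) |>.trans (Submodule.topEquiv)
  set f : (Fin n → ℂ) →ₗ[ℂ] ℂ := e.symm.toLinearMap ∘ₗ P.rangeRestrict
  have hf : P = f.smulRight (v : Fin n → ℂ) := LinearMap.ext fun w => by
    have h := congrArg Subtype.val (e.apply_symm_apply (P.rangeRestrict w))
    exact h.symm
  have hXf : X = (f ∘ₗ X).smulRight (v : Fin n → ℂ) := by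
    conv_lhs => rw [← hX, hf]
    rfl
  have hYf : Y = (f ∘ₗ Y).smulRight (v : Fin n → ℂ) := by
    conv_lhs => rw [← hY, hf]
    rfl
  have hXY : X * Y = f (X v) • Y := LinearMap.ext fun w => by
    show X (Y w) = f (X v) • Y w
    conv_lhs => rw [hYf]
    conv_rhs => rw [hYf]
    simp only [LinearMap.smulRight_apply, map_smul]
    conv_lhs => rw [hXf]
    simp only [LinearMap.smulRight_apply, LinearMap.comp_apply, smul_smul]
    rw [mul_comm]
  rw [hXY, map_smul, smul_eq_mul]
  congr 1
  conv_rhs => rw [hXf]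
  rw [LinearMap.trace_smulRight]
  rfl

include hM in
/-- The block idempotent through links to one primitive idempotent. -/
theorem exists_links (hB : Cfsg.IsPBlock M B) {c : Cls G hM}
    (huniq : ∀ c', InA hM B c' → c' = c) :
    ∃ (J : Finset (alg hM G)) (l l' : J → MonoidAlgebra ℂ G),
      (∀ q, IntEl M (l q) ∧ IntEl M (l' q) ∧ pi hM c * l q = l q ∧ blockIdem B * l' q = l' q) ∧
        ∑ q, l' q * l q = blockIdem B := by
  classical
  have hint := intEl_blockIdem hM hB
  set e := mkA hM hint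
  obtain ⟨J, hJ⟩ := exists_decomp (Loc hM) (e := e) (Subtype.ext (blockIdem_mul_self B))
  have heq : ∀ q ∈ J, (q : alg hM G) * e = q := fun q hq => by
    rw [← hJ.sum, Finset.mul_sum, Finset.sum_eq_single q
      (fun x hx hne => hJ.orth q hq x hx hne.symm) (fun h => absurd hq h), (hJ.prim q hq).idem]
  have hcomm : ∀ x : alg hM G, e * x = x * e := fun x =>
    Subtype.ext (central_commute (central_blockIdem B) x.1).eq
  have key : ∀ q : J, ∃ r r' : alg hM G, (mem' hM c : alg hM G) * r = r ∧ e * r' = r' ∧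
      r' * r = (q : alg hM G) := by
    intro q
    have hq := hJ.prim _ q.2
    obtain ⟨c', hc'⟩ := exists_cls hM hq
    obtain ⟨r, r', h1, h2, h3, h4⟩ := hc'
    obtain ⟨a1, a2⟩ := link_mem hq.idem (mem'_prim hM c').idem h1
    obtain ⟨b1, b2⟩ := link_mem (mem'_prim hM c').idem hq.idem h2
    have hqe : e * (q : alg hM G) = (q : alg hM G) := (hcomm _).trans (heq _ q.2)
    have hr : e * r = r := by rw [← a1, ← mul_assoc, hqe]
    have hr' : e * r' = r' := by rw [hcomm, ← b2, mul_assoc, heq _ q.2]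
    obtain rfl : c' = c := huniq c' (show blockIdem B * pi hM c' = pi hM c' from
      congrArg Subtype.val (show e * (mem' hM c' : alg hM G) = mem' hM c' by
        rw [← h4, ← mul_assoc, hr']))
    exact ⟨r', r, b1, hr, h3⟩
  choose l l' h1 h2 h3 using key
  refine ⟨J, fun q => (l q).1, fun q => (l' q).1, fun q => ⟨(l q).2.int, (l' q).2.int,
    congrArg Subtype.val (h1 q), congrArg Subtype.val (h2 q)⟩, ?_⟩
  have h := congrArg Subtype.val hJ.sum
  rw [AddSubmonoidClass.coe_finsetSum, ← Finset.sum_coe_sort] at h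
  refine Eq.trans ?_ h
  exact Finset.sum_congr rfl fun q _ => congrArg Subtype.val (h3 q)

end Cfsg.Agent.Blocks.EqualDegree
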