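import Mathlib
import Cfsg.Agent.Lib.Blocks.EqualDegree.RankOne
import Cfsg.Agent.BlockCharsA.CentralDefectLift

/-!
# The Brauer map is injective modulo the ideal on the centre of a block with equal degrees

An integral central element of the block whose coefficients on the centraliser of the defect group
lie in the ideal has all its coefficients there.
-/

set_option linter.style.haveILetI false
set_option linter.unusedSectionVars false

namespace Cfsg.Agent.Blocks.EqualDegree

open Cfsg.Agent.Blocks Cfsg.Agent.Characters Cfsg.Agent.Blocks.Star Cfsg.Agent.Blocks.BrauerChar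
open Cfsg.Agent.BlockCharsA.BrauerPairs
open MonoidAlgebra
open scoped ComplexConjugate

universe u

variable {G : Type u} [Group G] [Finite G] {p : ℕ} {M : Ideal Cfsg.AlgInt}

theorem coeff_one_comm (x y : MonoidAlgebra ℂ G) : (x * y).coeff 1 = (y * x).coeff 1 := by
  haveI := Fintype.ofFinite G
  rw [coeff_mul', coeff_mul']
  exact Fintype.sum_equiv (Equiv.inv G) _ _ fun k => by simp [mul_comm]

/-- The truncation of the block idempotent at a pair is nonzero modulo the ideal. -/
theorem not_idealEl_br (hM : Cfsg.IsPModular p M) {B : Set (Cfsg.IrrCharacter G)} {D : Subgroup G}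
    {e : Set (Cfsg.IrrCharacter (Subgroup.centralizer (D : Set G)))}
    (he : Cfsg.IsBrauerPairOf p M B D e) : ¬ IdealEl M (br D (blockIdem B)) := by
  intro h
  obtain ⟨ξ, hξ⟩ := block_nonempty hM he.1.2
  have h1 := he.2.2 ξ hξ
  rw [brauerOmega_block] at h1
  have h2 := omega_cong hM ξ (central_br (invBy_blockIdem B _)) central_zero
    (show CongEl M (br D (blockIdem B)) 0 from congEl_iff.2 fun c => by
      rw [MonoidAlgebra.coeff_zero, Finsupp.zero_apply, cong_zero_iff]; exact h c)
  rw [omega_zero] at h2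
  exact not_cong_zero_one hM (cong_trans hM (cong_symm hM h2) h1)

/-- The socle lemma. -/
theorem socle (hM : Cfsg.IsPModular p M) {B : Set (Cfsg.IrrCharacter G)} (hB : Cfsg.IsPBlock M B)
    {d : ℕ} (hd : ∀ η ∈ B, Cfsg.charDegree (η : G → ℂ) = d) {D : Subgroup G}
    {e : Set (Cfsg.IrrCharacter (Subgroup.centralizer (D : Set G)))}
    (he : Cfsg.IsBrauerPairOf p M B D e) {z : MonoidAlgebra ℂ G} (hz : IsCentralEl z)
    (hzi : IntEl M z) (hzB : blockIdem B * z = z)
    (hzD : ∀ g ∈ Subgroup.centralizer (D : Set G), Cfsg.MemLocalIdeal M (z.coeff g)) :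
    IdealEl M z := by
  classical
  haveI := Fintype.ofFinite G
  haveI := Fintype.ofFinite (Cfsg.IrrCharacter G)
  by_contra hne
  obtain ⟨g, hg⟩ := not_forall.1 hne
  obtain ⟨c, -, huniq, hall⟩ := exists_single hM hB hd
  obtain ⟨J, l, l', hl, hsum⟩ := exists_links hM hB huniq
  set φ := ext p (ibr hM c)
  set j := pi hM c
  -- a corner element detecting `z`
  obtain ⟨b, hbi, hjb, hT⟩ : ∃ b : MonoidAlgebra ℂ G, IntEl M b ∧ j * b = b ∧
      ¬ Cfsg.MemLocalIdeal M ((z * b).coeff 1) := by
    by_contra hno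
    push Not at hno
    refine hg ?_
    have e1 : z.coeff g = ((blockIdem B * z) * single g⁻¹ (1 : ℂ)).coeff 1 := by
      rw [hzB, coeff_mul_single', inv_inv, one_mul, mul_one]
    rw [e1, ← hsum, Finset.sum_mul, Finset.sum_mul, MonoidAlgebra.coeff_sum, Finsupp.finsetSum_apply]
    refine ideal_sum hM fun q _ => ?_
    rw [show l' q * l q * z * single g⁻¹ (1 : ℂ) = l' q * (z * (l q * single g⁻¹ 1)) by
        rw [mul_assoc, mul_assoc, ← mul_assoc (l q) z, ← (central_commute hz (l q)).eq,
          mul_assoc z],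
      coeff_one_comm, mul_assoc]
    exact hno _ (intEl_mul hM (intEl_mul hM (hl q).1 (intEl_single hM _ (ring_one hM))) (hl q).2.1)
      (by rw [← mul_assoc, ← mul_assoc, (hl q).2.2.1])
  -- the central element acting by the values at `b`
  set y := ∑ q, l' q * b * l q with hy
  have hyi : IntEl M y :=
    intEl_sum hM fun q _ => intEl_mul hM (intEl_mul hM (hl q).2.1 hbi) (hl q).1
  let cb : Cfsg.IrrCharacter G → ℂ := fun χ => if χ ∈ B then evalChar (χ : G → ℂ) b else 0
  have hyc : y = fourier cb := eq_fourier fun χ s => by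
    by_cases hχ : χ ∈ B
    · rw [hy, Finset.sum_mul, evalChar_sum]
      have e2 : ∀ q, evalChar (χ : G → ℂ) (l' q * b * l q * single s 1) =
          evalChar (χ : G → ℂ) b * evalChar (χ : G → ℂ) (single s 1 * (l' q * l q)) := fun q => by
        rw [mul_assoc, mul_assoc, evalChar_mul_comm (irr_isClassFunction χ), mul_assoc,
          evalChar_rank_one χ (pi_idem hM c) (hall χ hχ).1 hjb
            (show j * (l q * single s 1 * l' q) = l q * single s 1 * l' q by
              rw [← mul_assoc, ← mul_assoc, (hl q).2.2.1])]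
        rw [mul_assoc (l q), evalChar_mul_comm (irr_isClassFunction χ) (x := l q), mul_assoc]
      rw [Finset.sum_congr rfl fun q _ => e2 q, ← Finset.mul_sum, ← evalChar_sum, ← Finset.mul_sum,
        hsum, ← (central_commute (central_blockIdem B) _).eq,
        evalChar_central_mul χ (central_blockIdem B), omega_blockIdem_mem hχ, one_mul,
        evalChar_single, one_mul, show cb χ = evalChar (χ : G → ℂ) b from if_pos hχ]
    · have e3 : blockIdem B * y = y := by
        rw [hy, Finset.mul_sum]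
        exact Finset.sum_congr rfl fun q _ => by rw [← mul_assoc, ← mul_assoc, (hl q).2.2.2]
      rw [show cb χ = 0 from if_neg hχ, zero_mul, ← e3, mul_assoc,
        evalChar_central_mul χ (central_blockIdem B), omega_blockIdem_notMem hχ, zero_mul]
  have hyC : IsCentralEl y := hyc ▸ central_fourier cb
  have hyω : ∀ χ : Cfsg.IrrCharacter G, omega (χ : G → ℂ) y = cb χ := fun χ => by
    rw [hyc, omega_fourier]
  -- the product vanishes on the centraliser
  have hD : IsPGroup p D := he.1.1
  have hw : ∀ s ∈ Subgroup.centralizer (D : Set G), Cfsg.MemLocalIdeal M ((z * y).coeff s) := by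
    intro s hs
    have h1 := br_mul hM hD hzi hyi (fun u _ k => hz k u) (fun u _ k => hyC k u)
    have h2 : IdealEl M (br D z * br D y) := idealEl_mul_right hM (fun k => by
      rw [br, coeff_restrEl]; exact hzD _ k.2) (intEl_restrEl _ hyi)
    have h3 := (ideal_iff_of_cong hM (congEl_iff.1 h1 ⟨s, hs⟩)).2 (h2 _)
    rwa [br, coeff_restrEl] at h3
  -- the values of the Brauer character
  refine not_idealEl_br hM he fun s => ?_
  rw [br, coeff_restrEl, coeff_blockIdem]
  have hvan := van_of_block hM hB hd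
  by_cases hs : p ∣ orderOf (s : G)
  · rw [coeff_singular hd hvan hs]
    exact ideal_zero hM
  have hs' : ¬ p ∣ orderOf (s : G)⁻¹ := by rwa [orderOf_inv]
  have hws : (z * y).coeff (s : G) = (z * b).coeff 1 * conj (φ (s : G)) := by
    have e4 : (z * b).coeff 1 = (Nat.card G : ℂ)⁻¹ * ∑ χ : Cfsg.IrrCharacter G,
        (χ : G → ℂ) 1 * (omega (χ : G → ℂ) z * evalChar (χ : G → ℂ) b) := by
      rw [Finset.sum_congr rfl fun χ _ => by rw [← evalChar_central_mul χ hz b], ← coeff_one_chars,
        ← mul_assoc, inv_mul_cancel₀ natCard_ne_zero, one_mul]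
    rw [coeff_via_chars, e4, mul_assoc (Nat.card G : ℂ)⁻¹, Finset.sum_mul]
    congr 1
    refine Finset.sum_congr rfl fun χ _ => ?_
    rw [mul_assoc z y, evalChar_central_mul χ hz, evalChar_central_mul χ hyC, hyω,
      evalChar_single, one_mul, char_inv (irr_isCharacter χ)]
    by_cases hχ : χ ∈ B
    · rw [show cb χ = evalChar (χ : G → ℂ) b from if_pos hχ, (hall χ hχ).2 _ hs]
      ring
    · rw [show omega (χ : G → ℂ) z = 0 by
        rw [← hzB, omega_mul χ (central_blockIdem B), omega_blockIdem_notMem hχ, zero_mul]]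
      ring
  obtain ⟨η₀, h₀⟩ := block_nonempty hM hB
  have hφr : Cfsg.MemLocalRing M (conj (φ (s : G))) := by
    rw [← (hall η₀ h₀).2 _ hs]
    exact irr_conj_ring hM η₀ _
  have h4 := hw s s.2
  rw [hws, ideal_mul_iff hM (intEl_mul hM hzi hbi 1) hφr, or_iff_right hT] at h4
  rw [coeff_regular hd (fun η hη => (hall η hη).2) hs]
  rw [mul_comm]
  exact ideal_mul_right hM h4 (ring_card_deg hM hd hvan).2

/-! ### Blocks with a central abelian defect group -/

section Central

variable {K : Type u} [Group K] [Finite K]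

/-- The characters of a block with a central defect group. -/
theorem central_facts (hM : Cfsg.IsPModular p M) {f : Set (Cfsg.IrrCharacter K)}
    (hf : Cfsg.IsPBlock M f) {Z : Subgroup K} (hZ : Cfsg.IsDefectGroup p M f Z)
    (hZc : ∀ t ∈ Z, ∀ x : K, Commute t x) :
    ∃ (θ : K → ℂ) (n : ℕ),
      (∀ η ∈ f, Cfsg.charDegree (η : K → ℂ) = n) ∧
      (∀ η ∈ f, ∀ s : K, ¬ p ∣ orderOf s → (η : K → ℂ) s = θ s) ∧
      (∃ s₀ : K, ¬ p ∣ orderOf s₀ ∧ ¬ Cfsg.MemLocalIdeal M (conj (θ s₀))) ∧
      (∀ η ∈ f, ∃ lam : K → ℂ, ∀ u ∈ Z, ∀ s : K, ¬ p ∣ orderOf s →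
        (η : K → ℂ) (u * s) = lam u * θ s) ∧
      ∀ η ∈ f, ∀ g : K, (∀ y, Cfsg.IsPPart p g y → y ∉ Z) → (η : K → ℂ) g = 0 := by
  classical
  haveI := Fintype.ofFinite (Cfsg.IrrCharacter K)
  have hZp := isPGroup_defect hZ
  obtain ⟨θ, hθ, hker⟩ := BlockCharsA.CentralDefect.exists_trivial hM hf hZp hZc
  have hG : Z ⊔ Subgroup.centralizer (Z : Set K) = ⊤ :=
    top_le_iff.1 (le_trans (show (⊤ : Subgroup K) ≤ Subgroup.centralizer (Z : Set K) from
      fun x _ y hy => (hZc y hy x).eq) le_sup_right)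
  obtain ⟨hmem, -⟩ := BlockCharsA.CentralDefectLift.members hM hZp hG hf hZ hθ hker
  choose ζ hζ using hmem
  have h1 : ∀ η (hη : η ∈ f), (ζ η hη : Z → ℂ) 1 = 1 := fun η hη =>
    irr_degree_one_of_comm (fun a b => Subtype.ext (hZc a a.2 b).eq) (ζ η hη).2
  have hreg : ∀ η ∈ f, ∀ s : K, ¬ p ∣ orderOf s → (η : K → ℂ) s = (θ : K → ℂ) s := by
    intro η hη s hs
    have h := (hζ η hη).1 1 s hs (Commute.one_left s)
    rwa [OneMemClass.coe_one, one_mul, h1, one_mul] at h
  have hn : ∀ η ∈ f, Cfsg.charDegree (η : K → ℂ) = Cfsg.charDegree (θ : K → ℂ) := fun η hη => by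
    rw [Cfsg.charDegree, Cfsg.charDegree, hreg η hη 1 (by simp [hM.1.ne_one])]
  refine ⟨θ, _, hn, hreg, ?_, fun η hη => ⟨fun u => if hu : u ∈ Z then (ζ η hη : Z → ℂ) ⟨u, hu⟩ else 0,
    fun u hu s hs => ?_⟩, fun η hη => (hζ η hη).2⟩
  · by_contra hno
    push Not at hno
    have h0 : IdealEl M (blockIdem f) := fun g => by
      rw [coeff_blockIdem]
      have hvan := van_of_block hM hf hn
      by_cases hg : p ∣ orderOf g
      · rw [coeff_singular hn hvan hg]
        exact ideal_zero hM
      · rw [coeff_regular hn hreg hg, mul_comm]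
        exact ideal_mul_right hM (hno g hg) (ring_card_deg hM hn hvan).2
    have h2 := omega_ideal hM θ (central_blockIdem f) h0
    rw [omega_blockIdem_mem hθ] at h2
    exact not_ideal_one hM h2
  · simp only [dif_pos hu]
    exact (hζ η hη).1 ⟨u, hu⟩ s hs (hZc u hu s)

/-- The coefficients of a central element of a block with a central defect group are determined by
those along one regular element. -/
theorem central_coeff (hM : Cfsg.IsPModular p M) {f : Set (Cfsg.IrrCharacter K)} {Z : Subgroup K}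
    {θ : K → ℂ} {s₀ : K} (hs₀ : ¬ p ∣ orderOf s₀)
    (hlam : ∀ η ∈ f, ∃ lam : K → ℂ, ∀ u ∈ Z, ∀ s : K, ¬ p ∣ orderOf s →
      (η : K → ℂ) (u * s) = lam u * θ s)
    (hzero : ∀ η ∈ f, ∀ g : K, (∀ y, Cfsg.IsPPart p g y → y ∉ Z) → (η : K → ℂ) g = 0)
    {x : MonoidAlgebra ℂ K} (hx : IsCentralEl x) (hfx : blockIdem f * x = x) :
    (∀ u ∈ Z, ∀ s : K, ¬ p ∣ orderOf s →
      x.coeff (u * s) * conj (θ s₀) = x.coeff (u * s₀) * conj (θ s)) ∧
    ∀ g : K, (∀ y, Cfsg.IsPPart p g y → y ∉ Z) → x.coeff g = 0 := by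
  classical
  haveI := Fintype.ofFinite (Cfsg.IrrCharacter K)
  have hω : ∀ η ∉ f, omega (η : K → ℂ) x = 0 := fun η hη => by
    rw [← hfx, omega_mul η (central_blockIdem f), omega_blockIdem_notMem hη, zero_mul]
  have hco : ∀ g, x.coeff g = (Nat.card K : ℂ)⁻¹ * ∑ η : Cfsg.IrrCharacter K,
      omega (η : K → ℂ) x * (η : K → ℂ) 1 * conj ((η : K → ℂ) g) := fun g => by
    conv_lhs => rw [← fourier_omega hx, coeff_fourier]
  refine ⟨fun u hu s hs => ?_, fun g hg => ?_⟩
  · rw [hco, hco, mul_assoc, mul_assoc, Finset.sum_mul, Finset.sum_mul]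
    congr 1
    refine Finset.sum_congr rfl fun η _ => ?_
    by_cases hη : η ∈ f
    · obtain ⟨lam, hl⟩ := hlam η hη
      rw [hl u hu s hs, hl u hu s₀ hs₀, map_mul, map_mul]
      ring
    · simp [hω η hη]
  · rw [hco]
    refine mul_eq_zero_of_right _ (Finset.sum_eq_zero fun η _ => ?_)
    by_cases hη : η ∈ f
    · rw [hzero η hη g hg, map_zero, mul_zero]
    · simp [hω η hη]

end Central

end Cfsg.Agent.Blocks.EqualDegree
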