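import Mathlib
import Cfsg.Agent.Lib.Blocks.EqualDegree.Socle
import Cfsg.Agent.Lib.Blocks.InducedPairs
import Cfsg.Agent.BlockCharsA.PairNilpotent

/-!
# Equal degrees force a trivial inertial action on an abelian defect group

For a block with an abelian defect group whose characters have equal degrees and height zero, the
centre modulo the ideal embeds in the functions on the orbits of the inertial group on the defect
group, while the block has at least as many characters as the defect group has elements.
-/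

set_option linter.style.haveILetI false
set_option linter.unusedSectionVars false

namespace Cfsg.Agent.Blocks.EqualDegree

open Cfsg.Agent.Blocks Cfsg.Agent.Characters Cfsg.Agent.Blocks.Star
open Cfsg.Agent.BlockCharsA Cfsg.Agent.BlockCharsA.BrauerPairs Cfsg.Agent.BlockCharsA.PairLocal
open Cfsg.Agent.BlockCharsA.PairConj Cfsg.Agent.BlockCharsA.PairStab
open MonoidAlgebra
open scoped ComplexConjugate

universe u

variable {G : Type u} [Group G] [Finite G] {p : ℕ} {M : Ideal Cfsg.AlgInt}
  {B : Set (Cfsg.IrrCharacter G)} {D : Subgroup G}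
  {e : Set (Cfsg.IrrCharacter (Subgroup.centralizer (D : Set G)))}

theorem br_add' (P : Subgroup G) (x y : MonoidAlgebra ℂ G) : br P (x + y) = br P x + br P y :=
  el_ext fun c => by simp [br, coeff_restrEl]

theorem br_smul' (P : Subgroup G) (a : ℂ) (x : MonoidAlgebra ℂ G) : br P (a • x) = a • br P x :=
  el_ext fun c => by simp [br, coeff_restrEl]

theorem invBy_cutEl {t : G} (ht : t ∈ Subgroup.normalizer (D : Set G)) {z : MonoidAlgebra ℂ G}
    (hz : IsCentralEl z) : InvBy ({t} : Set G) (cutEl D z) := by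
  rintro u rfl g
  have hn := normalizer_le_normalizer_centralizer D ht
  by_cases hg : g ∈ Subgroup.centralizer (D : Set G)
  · rw [cutEl_coeff_mem z hg, cutEl_coeff_mem z ((Subgroup.mem_normalizer_iff.1 hn g).1 hg), hz]
  · rw [cutEl_coeff_notMem z hg,
      cutEl_coeff_notMem z fun h => hg ((Subgroup.mem_normalizer_iff.1 hn g).2 h)]

/-- The truncation of a central element, cut to the block of a pair, is invariant under the
stabiliser of the pair. -/
theorem coeff_local_conj {z : MonoidAlgebra ℂ G} (hz : IsCentralEl z) {t : G} (ht : t ∈ stab D e)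
    (c c' : Subgroup.centralizer (D : Set G)) (hc : (c' : G) = t * c * t⁻¹) :
    (br D z * blockIdem e).coeff c' = (br D z * blockIdem e).coeff c := by
  set X := inclEl (Subgroup.centralizer (D : Set G)) (br D z * blockIdem e)
  have hX : X = cutEl D z * elF (Subgroup.centralizer (D : Set G)) e := by
    rw [← inclEl_br, elF, ← map_mul]
  have h1 : InvBy ({t} : Set G) X := by
    rw [hX, invBy_iff_commute]
    intro u hu
    exact (invBy_iff_commute.1 (invBy_cutEl ht.1 hz) u hu).mul_right
      (invBy_iff_commute.1 (show InvBy ({t} : Set G) (elF (Subgroup.centralizer (D : Set G)) e)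
        from fun v hv g => by rw [Set.mem_singleton_iff.1 hv]; exact ht.2 g) u hu)
  have h2 := h1 t rfl (c : G)
  rwa [← hc, coeff_inclEl_of_mem _ _ c'.2, coeff_inclEl_of_mem _ _ c.2] at h2

/-- An element vanishing at one maximal pair at `D` vanishes at every pair at `D`. -/
theorem idealEl_local_conj (hM : Cfsg.IsPModular p M)
    (hmax : Cfsg.IsMaximalBrauerPair p M B D e) {z : MonoidAlgebra ℂ G} (hz : IsCentralEl z)
    (h : IdealEl M (br D z * blockIdem e))
    {f : Set (Cfsg.IrrCharacter (Subgroup.centralizer (D : Set G)))}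
    (hf : Cfsg.IsBrauerPairOf p M B D f) : IdealEl M (br D z * blockIdem f) := by
  obtain ⟨n, hn, hnf⟩ := exists_conj_of_same hM hmax hf
  let F : Cfsg.BrauerPairIdx G → G → ℂ := fun a g =>
    (elF (Subgroup.centralizer (a.1 : Set G)) a.2).coeff g
  have hcoef : ∀ g, (elF (Subgroup.centralizer (D : Set G)) f).coeff (n * g * n⁻¹) =
      (elF (Subgroup.centralizer (D : Set G)) e).coeff g := fun g => by
    rw [← coeff_conjBlock D n e g]
    exact (congrArg (fun a => F a (n * g * n⁻¹)) hnf).symm
  have h1 : ∀ g, (cutEl D z * elF (Subgroup.centralizer (D : Set G)) f).coeff g =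
      (cutEl D z * elF (Subgroup.centralizer (D : Set G)) e).coeff (n⁻¹ * g * n) := by
    haveI := Fintype.ofFinite G
    intro g
    rw [coeff_mul', coeff_mul']
    refine Fintype.sum_equiv (MulAut.conj n⁻¹).toEquiv _ _ fun k => ?_
    show _ = (cutEl D z).coeff (n⁻¹ * k * n⁻¹⁻¹) * _
    rw [invBy_cutEl (inv_mem hn) hz n⁻¹ rfl k]
    congr 1
    rw [← hcoef]
    congr 1
    simp [mul_assoc]
  intro c
  have hC : ∀ f' : Set (Cfsg.IrrCharacter (Subgroup.centralizer (D : Set G))),
      cutEl D z * elF (Subgroup.centralizer (D : Set G)) f' =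
        inclEl (Subgroup.centralizer (D : Set G)) (br D z * blockIdem f') := fun f' => by
    rw [map_mul, inclEl_br, elF]
  have h2 := h1 c
  rw [hC, hC, coeff_inclEl_of_mem _ _ c.2] at h2
  rw [h2]
  by_cases hm : n⁻¹ * (c : G) * n ∈ Subgroup.centralizer (D : Set G)
  · rw [coeff_inclEl_of_mem _ _ hm]; exact h _
  · rw [coeff_inclEl_notMem _ _ hm]; exact ideal_zero hM

/-- If the truncation vanishes at one pair, it vanishes. -/
theorem idealEl_br (hM : Cfsg.IsPModular p M) (hmax : Cfsg.IsMaximalBrauerPair p M B D e)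
    {z : MonoidAlgebra ℂ G} (hz : IsCentralEl z) (hzi : IntEl M z) (hzB : blockIdem B * z = z)
    (h : IdealEl M (br D z * blockIdem e)) : IdealEl M (br D z) := by
  classical
  set C := Subgroup.centralizer (D : Set G)
  haveI := Fintype.ofFinite {f : Set (Cfsg.IrrCharacter C) // Cfsg.IsPBlock M f}
  have hB := hmax.1.2.1
  have hD : IsPGroup p D := hmax.1.1.1
  rw [show br D z = ∑ f : {f : Set (Cfsg.IrrCharacter C) // Cfsg.IsPBlock M f},
    br D z * blockIdem f.1 by rw [← Finset.mul_sum, sum_blockIdem hM, mul_one]]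
  intro g
  rw [MonoidAlgebra.coeff_sum, Finsupp.finsetSum_apply]
  refine ideal_sum hM fun f _ => ?_
  by_cases hf : Cfsg.IsBrauerPairOf p M B D f.1
  · exact idealEl_local_conj hM hmax hz h hf g
  · have hbi : IntEl M (br D (blockIdem B)) := intEl_restrEl _ (intEl_blockIdem hM hB)
    have hfi : IntEl M (blockIdem f.1) := intEl_blockIdem hM f.2
    have hbc : IsCentralEl (br D (blockIdem B)) := central_br (invBy_blockIdem _ _)
    have hw : IdealEl M (br D (blockIdem B) * blockIdem f.1) := by
      refine idealEl_of_omega hM (central_mul hbc (central_blockIdem _)) (intEl_mul hM hbi hfi) ?_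
        fun ξ => ?_
      · rw [mul_assoc, ← mul_assoc (blockIdem f.1), ← (central_commute hbc (blockIdem f.1)).eq,
          mul_assoc (br D (blockIdem B)), blockIdem_mul_self, ← mul_assoc]
        exact congEl_mul hM (PairCorr.br_blockIdem_idem hM hD hB) (congEl_of_eq hM rfl) hbi hfi
      · rw [omega_mul ξ hbc]
        by_cases hξ : ξ ∈ f.1
        · have := (PairCorr.pairOf_iff hM hD hB ξ).2 (by rwa [← block_eq_blockOf hM f.2 hξ])
          exact ideal_mul_right hM (cong_zero_iff.1 this) (omega_ring hM ξ (central_blockIdem _) hfi)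
        · rw [omega_blockIdem_notMem hξ, mul_zero]; exact ideal_zero hM
    have h1 := br_mul hM hD (intEl_blockIdem hM hB) hzi (invBy_blockIdem B _)
      (fun u _ k => hz k u)
    rw [hzB] at h1
    have h2 : IdealEl M (br D (blockIdem B) * br D z * blockIdem f.1) := by
      rw [mul_assoc, (central_commute (central_blockIdem f.1) (br D z)).eq.symm, ← mul_assoc]
      exact idealEl_mul_right hM hw (intEl_restrEl _ hzi)
    have h3 : CongEl M (br D z * blockIdem f.1) (br D (blockIdem B) * br D z * blockIdem f.1) :=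
      congEl_mul hM h1 (congEl_of_eq hM rfl) (intEl_mul hM hbi (intEl_restrEl _ hzi)) hfi
    exact (ideal_iff_of_cong hM (congEl_iff.1 h3 g)).2 (h2 g)

/-- Equal degrees and height zero give at least as many characters as defect group elements. -/
theorem card_le_block (hM : Cfsg.IsPModular p M) (hB : Cfsg.IsPBlock M B)
    (hD : Cfsg.IsDefectGroup p M B D) {d : ℕ} (hd : ∀ η ∈ B, Cfsg.charDegree (η : G → ℂ) = d)
    (h0 : ∀ η ∈ B, Cfsg.blockHeight p B (η : G → ℂ) = 0) : Nat.card D ≤ Nat.card B := by
  classical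
  haveI := Fintype.ofFinite (Cfsg.IrrCharacter G)
  obtain ⟨η₀, h₀⟩ := block_nonempty hM hB
  haveI : Nonempty B := ⟨⟨η₀, h₀⟩⟩
  have h1 := (ring_card_deg hM hd (van_of_block hM hB hd)).1
  have hd0 : d ≠ 0 := hd η₀ h₀ ▸ (charDegree_pos η₀).ne'
  have hk : Nat.card B ≠ 0 := Nat.card_pos.ne'
  have h2 := (hM.1.pow_dvd_iff_le_factorization (mul_ne_zero hk hd0)).1 h1
  rw [Nat.factorization_mul hk hd0, Finsupp.add_apply] at h2
  have h3 := degree_factorization_eq hM hB h₀
  rw [hd η₀ h₀, h0 η₀ h₀] at h3
  rw [Blocks.card_defectGroup hM hB hD]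
  refine Nat.le_of_dvd Nat.card_pos ((hM.1.pow_dvd_iff_le_factorization hk).2 ?_)
  omega

/-- The inertial group centralises the defect group. -/
theorem stab_le_centralizer (hM : Cfsg.IsPModular p M) (hB : Cfsg.IsPBlock M B)
    (hD : Cfsg.IsDefectGroup p M B D) (hmax : Cfsg.IsMaximalBrauerPair p M B D e)
    (hab : ∀ x ∈ D, ∀ y ∈ D, x * y = y * x) {d : ℕ}
    (hd : ∀ η ∈ B, Cfsg.charDegree (η : G → ℂ) = d)
    (h0 : ∀ η ∈ B, Cfsg.blockHeight p B (η : G → ℂ) = 0) :
    stab D e ≤ Subgroup.centralizer (D : Set G) := by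
  classical
  haveI := fact_prime_of_pm hM
  haveI := Fintype.ofFinite G
  haveI := Fintype.ofFinite (Cfsg.IrrCharacter G)
  haveI := Fintype.ofFinite (Cfsg.IrrCharacter (Subgroup.centralizer (D : Set G)))
  have hDC : D ≤ (Subgroup.centralizer (D : Set G)) := fun x hx y hy => hab y hy x hx
  have he : Cfsg.IsPBlock M e := hmax.1.1.2
  have hZ := InducedPairs.defect_local_of_abelian hM hmax hab (Q := D) (f := e)
    Relation.ReflTransGen.refl
  obtain ⟨θ, n, hn, hreg, ⟨s₀, hs₀, hθs₀⟩, hlam, hzero⟩ := central_facts hM he hZ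
    fun t ht x => Subtype.ext (x.2 (t : G) ht)
  obtain ⟨η₀, hη₀⟩ := block_nonempty hM he
  have hθr : ∀ s : (Subgroup.centralizer (D : Set G)), ¬ p ∣ orderOf s → Cfsg.MemLocalRing M (conj (θ s)) := fun s hs => by
    rw [← hreg η₀ hη₀ s hs]; exact irr_conj_ring hM η₀ s
  -- the local Brauer character is stable
  have hfac : (Nat.card e : ℂ) * (n : ℂ) / (Nat.card (Subgroup.centralizer (D : Set G)) : ℂ) ≠ 0 := by
    haveI : Nonempty e := ⟨⟨η₀, hη₀⟩⟩
    exact div_ne_zero (mul_ne_zero (Nat.cast_ne_zero.2 Nat.card_pos.ne')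
      (Nat.cast_ne_zero.2 (hn η₀ hη₀ ▸ (charDegree_pos η₀).ne'))) natCard_ne_zero
  have hθinv : ∀ t ∈ stab D e, ∀ s s' : (Subgroup.centralizer (D : Set G)), ¬ p ∣ orderOf s → (s' : G) = t * s * t⁻¹ →
      conj (θ s') = conj (θ s) := by
    intro t ht s s' hs hss
    have hs' : ¬ p ∣ orderOf s' := by
      rwa [← Subgroup.orderOf_coe, hss, BrauerChar.orderOf_conjugate, Subgroup.orderOf_coe]
    have h := ht.2 (s : G)
    rw [← hss, elF, coeff_inclEl_of_mem _ _ s'.2, coeff_inclEl_of_mem _ _ s.2, coeff_blockIdem,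
      coeff_blockIdem, coeff_regular hn hreg hs', coeff_regular hn hreg hs] at h
    exact mul_left_cancel₀ hfac h
  -- orbits
  let orb : D → Set D := fun u => {u' | ∃ t ∈ stab D e, (u' : G) = t * u * t⁻¹}
  set O := Set.range orb
  haveI := Fintype.ofFinite O
  let u0 : O → D := fun o => o.2.choose
  have hu0 : ∀ o : O, orb (u0 o) = o.1 := fun o => o.2.choose_spec
  let up : D → (Subgroup.centralizer (D : Set G)) := fun u => ⟨u, hDC u.2⟩
  -- the lattice
  let gens : G → MonoidAlgebra ℂ G := fun g => classSum g * blockIdem B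
  set V := Submodule.span (Loc hM) (Set.range gens) with hV
  have hVfg : V.FG := Submodule.fg_span (Set.finite_range gens)
  have hVmem : ∀ z ∈ V, IsCentralEl z ∧ IntEl M z ∧ blockIdem B * z = z := by
    intro z hz
    induction hz using Submodule.span_induction with
    | mem x hx =>
      obtain ⟨g, rfl⟩ := hx
      exact ⟨central_mul (central_classSum g) (central_blockIdem B),
        intEl_mul hM (intEl_classSum hM g) (intEl_blockIdem hM hB), by
        simp only [gens]
        rw [← mul_assoc, (central_commute (central_blockIdem B) (classSum g)).eq, mul_assoc,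
          blockIdem_mul_self]⟩
    | zero => exact ⟨central_zero, intEl_zero hM, mul_zero _⟩
    | add x y _ _ hx hy =>
      exact ⟨central_add hx.1 hy.1, intEl_add hM hx.2.1 hy.2.1, by rw [mul_add, hx.2.2, hy.2.2]⟩
    | smul a x _ hx =>
      exact ⟨by rw [loc_smul_def]; exact central_smul _ hx.1,
        by rw [loc_smul_def]; exact intEl_smul hM a.2 hx.2.1,
        by rw [loc_smul_def, mul_smul_comm, hx.2.2]⟩
  -- the functionals
  let Lval : V → O → Loc hM := fun z o =>
    ⟨(br D (z : MonoidAlgebra ℂ G) * blockIdem e).coeff (up (u0 o) * s₀),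
      intEl_mul hM (intEl_restrEl _ (hVmem z z.2).2.1) (intEl_blockIdem hM he) _⟩
  let L : V →ₗ[Loc hM] O → IsLocalRing.ResidueField (Loc hM) :=
    { toFun := fun z o => IsLocalRing.residue (Loc hM) (Lval z o)
      map_add' := fun z w => funext fun o => by
        rw [Pi.add_apply, ← map_add]
        congr 1
        refine Subtype.ext ?_
        show (br D ((z : MonoidAlgebra ℂ G) + w) * blockIdem e).coeff _ = _
        rw [br_add', add_mul, MonoidAlgebra.coeff_add, Finsupp.add_apply]
        rfl
      map_smul' := fun a z => funext fun o => by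
        rw [Pi.smul_apply, RingHom.id_apply, Algebra.smul_def, IsLocalRing.ResidueField.algebraMap_eq,
          ← map_mul]
        congr 1
        refine Subtype.ext ?_
        show (br D (((a : ℂ)) • (z : MonoidAlgebra ℂ G)) * blockIdem e).coeff _ = _
        rw [br_smul', smul_mul_assoc, MonoidAlgebra.coeff_smul_apply, smul_eq_mul]
        rfl }
  have hker : ∀ z : V, L z = 0 →
      (z : MonoidAlgebra ℂ G) ∈ IsLocalRing.maximalIdeal (Loc hM) • V := by
    intro z hz
    obtain ⟨hzc, hzi, hzB⟩ := hVmem z z.2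
    set x := br D (z : MonoidAlgebra ℂ G) * blockIdem e with hx
    have hxc : IsCentralEl x :=
      central_mul (central_br fun u _ k => hzc k u) (central_blockIdem e)
    have hxe : blockIdem e * x = x := by
      rw [hx, ← mul_assoc, (central_commute (central_blockIdem e) (br D _)).eq, mul_assoc,
        blockIdem_mul_self]
    obtain ⟨hcross, hoff⟩ := central_coeff hM hs₀ hlam hzero hxc hxe
    have hxi : IntEl M x := intEl_mul hM (intEl_restrEl _ hzi) (intEl_blockIdem hM he)
    have hu : ∀ u : D, Cfsg.MemLocalIdeal M (x.coeff (up u * s₀)) := by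
      intro u
      set o : O := ⟨orb u, u, rfl⟩
      have ho : u ∈ orb (u0 o) := by
        rw [hu0]; exact ⟨1, one_mem _, by simp⟩
      obtain ⟨t, ht, hu'⟩ := ho
      have hL : Cfsg.MemLocalIdeal M (x.coeff (up (u0 o) * s₀)) := by
        have h := congrFun hz o
        exact (mem_maximal_iff hM (Lval z o)).1 ((IsLocalRing.residue_eq_zero_iff _).1 h)
      set s' : (Subgroup.centralizer (D : Set G)) := ⟨t * (s₀ : G) * t⁻¹,
        (Subgroup.mem_normalizer_iff.1 (normalizer_le_normalizer_centralizer D ht.1) _).1 s₀.2⟩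
      have hs' : ¬ p ∣ orderOf s' := by
        rwa [← Subgroup.orderOf_coe, show (s' : G) = t * (s₀ : G) * t⁻¹ from rfl,
          BrauerChar.orderOf_conjugate, Subgroup.orderOf_coe]
      have hconj : x.coeff (up u * s') = x.coeff (up (u0 o) * s₀) :=
        coeff_local_conj hzc ht _ _ (by
          show (u : G) * (t * (s₀ : G) * t⁻¹) = t * ((u0 o : G) * (s₀ : G)) * t⁻¹
          rw [hu']; group)
      have h := hcross (up u) (Subgroup.mem_subgroupOf.2 u.2) s' hs'
      rw [hθinv t ht s₀ s' hs₀ rfl] at h
      rw [← mul_right_cancel₀ (ne_zero_of_not_ideal hM hθs₀) h, hconj]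
      exact hL
    have hxI : IdealEl M x := by
      intro g
      by_cases hg : ∀ y, Cfsg.IsPPart p g y → y ∉ D.subgroupOf (Subgroup.centralizer (D : Set G))
      · rw [hoff g hg]; exact ideal_zero hM
      · push Not at hg
        obtain ⟨y, ⟨s, hys, -, -, hs⟩, hy⟩ := hg
        have h := hcross y hy s hs
        rw [hys] at h
        have h2 : Cfsg.MemLocalIdeal M (x.coeff g * conj (θ s₀)) := by
          rw [h]
          exact ideal_mul_right hM (hu ⟨y, hy⟩) (hθr s hs)
        rw [ideal_mul_iff hM (hxi g) (hθr s₀ hs₀)] at h2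
        exact h2.resolve_right hθs₀
    have hI : IdealEl M (z : MonoidAlgebra ℂ G) :=
      socle hM hB hd hmax.1 hzc hzi hzB fun g hg => by
        have h := idealEl_br hM hmax hzc hzi hzB hxI ⟨g, hg⟩
        rwa [br, coeff_restrEl] at h
    haveI := Fintype.ofFinite (ConjClasses G)
    have e1 : (z : MonoidAlgebra ℂ G) = ∑ K : ConjClasses G,
        (⟨(z : MonoidAlgebra ℂ G).coeff (Quotient.out K), hzi _⟩ : Loc hM) •
          gens (Quotient.out K) := by
      conv_lhs => rw [← hzB, (central_commute (central_blockIdem B) _).eq, central_eq_sum hzc,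
        Finset.sum_mul]
      exact Finset.sum_congr rfl fun K _ => by rw [loc_smul_def, smul_mul_assoc]
    rw [e1]
    exact Submodule.sum_mem _ fun K _ => Submodule.smul_mem_smul ((mem_maximal_iff hM _).2 (hI _))
      (Submodule.subset_span ⟨_, rfl⟩)
  -- Nakayama
  obtain ⟨b, hb, hbspan, hbli⟩ := exists_linearIndependent (IsLocalRing.ResidueField (Loc hM))
    (Set.range L)
  haveI : Fintype b := (LinearIndependent.setFinite hbli).fintype
  have hcard : Nat.card b ≤ Nat.card O := by
    have h := hbli.fintype_card_le_finrank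
    rwa [Module.finrank_fintype_fun_eq_card, ← Nat.card_eq_fintype_card,
      ← Nat.card_eq_fintype_card] at h
  choose v hv using fun w : b => hb w.2
  set W := Submodule.span (Loc hM) (Set.range fun w => ((v w : V) : MonoidAlgebra ℂ G))
  have hVW : V ≤ W := by
    refine Submodule.le_of_le_smul_of_le_jacobson_bot hVfg
      (IsLocalRing.jacobson_eq_maximalIdeal ⊥ bot_ne_top).ge fun z hz => ?_
    have h1 : L ⟨z, hz⟩ ∈ Submodule.span (Loc hM) b := by
      rw [← Submodule.restrictScalars_span (Loc hM) (IsLocalRing.ResidueField (Loc hM))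
        IsLocalRing.residue_surjective, Submodule.restrictScalars_mem, hbspan]
      exact Submodule.subset_span ⟨_, rfl⟩
    have h2 : Submodule.span (Loc hM) b = (Submodule.span (Loc hM) (Set.range v)).map L := by
      rw [Submodule.map_span, ← Set.range_comp]
      congr 1
      ext w
      exact ⟨fun h => ⟨⟨w, h⟩, hv _⟩, by rintro ⟨a, rfl⟩; show L (v a) ∈ b; rw [hv a]; exact a.2⟩
    rw [h2] at h1
    obtain ⟨w, hw, hwL⟩ := h1
    have hw' : (w : MonoidAlgebra ℂ G) ∈ W := by
      have : W = (Submodule.span (Loc hM) (Set.range v)).map V.subtype := by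
        rw [Submodule.map_span, ← Set.range_comp]; rfl
      rw [this]
      exact ⟨w, hw, rfl⟩
    have h3 := hker (⟨z, hz⟩ - w) (by rw [map_sub, hwL, sub_self])
    rw [Submodule.mem_sup]
    exact ⟨_, hw', _, h3, by simp⟩
  -- the characters of the block
  have hkb : Nat.card B ≤ Nat.card b := by
    let Ω : MonoidAlgebra ℂ G →ₗ[ℂ] B → ℂ :=
      { toFun := fun z χ => omega ((χ : Cfsg.IrrCharacter G) : G → ℂ) z
        map_add' := fun z w => funext fun χ => omega_add _ z w
        map_smul' := fun a z => funext fun χ => omega_smul _ a z }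
    haveI := Fintype.ofFinite B
    have htop : ⊤ ≤ Submodule.span ℂ (Set.range fun w : b =>
        Ω ((v w : V) : MonoidAlgebra ℂ G)) := by
      rw [← (Pi.basisFun ℂ B).span_eq, Submodule.span_le]
      rintro _ ⟨χ, rfl⟩
      haveI := Fintype.ofFinite (ConjClasses G)
      have e1 : blockIdem ({(χ : Cfsg.IrrCharacter G)} : Set (Cfsg.IrrCharacter G)) ∈
          Submodule.span ℂ (Set.range fun w : b => ((v w : V) : MonoidAlgebra ℂ G)) := by
        set z := blockIdem ({(χ : Cfsg.IrrCharacter G)} : Set (Cfsg.IrrCharacter G)) with hz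
        have h : z * blockIdem B = z := by
          rw [hz, blockIdem_mul, Set.inter_eq_left.2 (Set.singleton_subset_iff.2 χ.2)]
        rw [← h, central_eq_sum (z := z) (central_blockIdem _), Finset.sum_mul]
        refine Submodule.sum_mem _ fun K _ => ?_
        rw [smul_mul_assoc]
        refine Submodule.smul_mem _ _ ?_
        exact Submodule.span_le_restrictScalars (Loc hM) ℂ _
          (hVW (Submodule.subset_span ⟨_, rfl⟩))
      have e2 : Pi.basisFun ℂ B χ = Ω (blockIdem ({(χ : Cfsg.IrrCharacter G)} : Set _)) :=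
        funext fun ψ => by
          rw [Pi.basisFun_apply, Pi.single_apply]
          show _ = omega _ _
          rw [omega_blockIdem]
          by_cases hψ : ψ = χ
          · rw [if_pos hψ, if_pos (show (ψ : Cfsg.IrrCharacter G) ∈ ({(χ : Cfsg.IrrCharacter G)} :
              Set (Cfsg.IrrCharacter G)) by rw [hψ]; exact rfl)]
          · rw [if_neg hψ, if_neg fun (h : (ψ : Cfsg.IrrCharacter G) ∈
              ({(χ : Cfsg.IrrCharacter G)} : Set (Cfsg.IrrCharacter G))) => hψ (Subtype.ext h)]
      show Pi.basisFun ℂ B χ ∈ _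
      rw [e2, Set.range_comp' Ω, ← Submodule.map_span]
      exact Submodule.mem_map_of_mem e1
    have h := Submodule.finrank_mono htop
    rw [finrank_top, Module.finrank_fintype_fun_eq_card] at h
    rw [Nat.card_eq_fintype_card, Nat.card_eq_fintype_card]
    exact h.trans (finrank_range_le_card _)
  have hle := (card_le_block hM hB hD hd h0).trans (hkb.trans hcard)
  have hinj : Function.Injective orb := by
    have h := (Nat.bijective_iff_surjective_and_card (Set.rangeFactorization orb)).2
      ⟨Set.rangeFactorization_surjective,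
        le_antisymm hle (Nat.card_le_card_of_surjective _ Set.rangeFactorization_surjective)⟩
    exact fun a b hab' => h.1 (Subtype.ext hab')
  intro t ht u hu
  have hu' : t * u * t⁻¹ ∈ D := (Subgroup.mem_normalizer_iff.1 ht.1 u).1 hu
  have heq : orb ⟨t * u * t⁻¹, hu'⟩ = orb ⟨u, hu⟩ := by
    ext w
    constructor
    · rintro ⟨s, hs, hw⟩
      exact ⟨s * t, mul_mem hs ht, by rw [hw]; simp [mul_assoc]⟩
    · rintro ⟨s, hs, hw⟩
      exact ⟨s * t⁻¹, mul_mem hs (inv_mem ht), by rw [hw]; simp [mul_assoc]⟩
  have h := congrArg Subtype.val (hinj heq)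
  calc u * t = t * u * t⁻¹ * t := by rw [show (t * u * t⁻¹ : G) = u from h]
    _ = t * u := by rw [inv_mul_cancel_right]

/-- Equal degrees force nilpotency. -/
theorem nilpotent_of_equal (hM : Cfsg.IsPModular p M) (hB : Cfsg.IsPBlock M B)
    (hD : Cfsg.IsDefectGroup p M B D) (hab : ∀ x ∈ D, ∀ y ∈ D, x * y = y * x) {d : ℕ}
    (hd : ∀ η ∈ B, Cfsg.charDegree (η : G → ℂ) = d)
    (h0 : ∀ η ∈ B, Cfsg.blockHeight p B (η : G → ℂ) = 0) : Cfsg.IsNilpotentBlock p M B := by
  obtain ⟨e, hmax⟩ := PairCorr.exists_maximal_on hM hB hD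
  exact (PairNilpotent.nilpotent_iff_inertial hM hmax hab).2 fun x hxN hxst =>
    stab_le_centralizer hM hB hD hmax hab hd h0 (mem_stab.2 ⟨hxN, hxst⟩)

end Cfsg.Agent.Blocks.EqualDegree
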