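import Mathlib
import Cfsg.Prelude.Def_BrauerPairs
import Cfsg.Agent.BlockCharsA.PairCorr
import Cfsg.Agent.Lib.Blocks.FongReynolds

/-!
# Nilpotency of a block with normal defect group

If the defect group `D` is normal and the stabiliser of every pair at `D` is `D C(D)`, then the
block is nilpotent.
-/

set_option linter.style.haveILetI false
set_option linter.unusedSectionVars false

namespace Cfsg.Agent.Blocks.EqualDegree

open Cfsg.Agent.Blocks Cfsg.Agent.Characters Cfsg.Agent.BlockCharsA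
open Cfsg.Agent.BlockCharsA.BrauerPairs Cfsg.Agent.BlockCharsA.PairStab
open Cfsg.Agent.BlockCharsA.PairLocal Cfsg.Agent.BlockCharsA.PairConj
open Cfsg.Agent.BlockCharsA.PairMax
open scoped Pointwise

universe u

variable {G : Type u} [Group G] [Finite G] {p : ℕ} {M : Ideal Cfsg.AlgInt}

/-- An idempotent that vanishes at a pair vanishes at every pair above it. -/
theorem ideal_of_subpairLE (hM : Cfsg.IsPModular p M) {X : MonoidAlgebra ℂ G} (hX : IntEl M X)
    (hXX : X * X = X) {a b : Cfsg.BrauerPairIdx G}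
    (h : Relation.ReflTransGen (Cfsg.NormalSubpairRel p M) a b)
    (hXC : InvBy (Subgroup.centralizer (a.1 : Set G) : Set G) X)
    (h0 : ∀ ψ ∈ a.2, Cfsg.MemLocalIdeal M
      (omega (ψ : Subgroup.centralizer (a.1 : Set G) → ℂ) (br a.1 X))) :
    InvBy (b.1 : Set G) X → ∀ ψ ∈ b.2, Cfsg.MemLocalIdeal M
      (omega (ψ : Subgroup.centralizer (b.1 : Set G) → ℂ) (br b.1 X)) := by
  induction h with
  | refl => exact fun _ => h0
  | @tail x y hax hxy ih =>
    intro hXy ξ hξ
    obtain ⟨hx, hy, hle, hN, hst, hω⟩ := hxy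
    have hCx : InvBy (Subgroup.centralizer (x.1 : Set G) : Set G) X :=
      invBy_mono (centralizer_le_centralizer (subpairLE_facts hM hax).1) hXC
    have hCy : InvBy (Subgroup.centralizer (y.1 : Set G) : Set G) X :=
      invBy_mono (centralizer_le_centralizer hle) hCx
    have h1 := hω ξ hξ
    rw [brauerOmega_elF] at h1
    have h2 := not_cong_one hM hy.1 hle hN hx.2 hst h1 hX hXX hXy hCx
      (ih (invBy_mono hle hXy))
    by_contra hn
    refine h2 (cong_one_of_idem hM (omega_br_ring hM ξ hX hCy) ?_ hn)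
    have h3 := omega_br_mul hM hy.1 ξ hX hX hXy hXy hCy hCy (by rwa [hXX])
    rw [hXX] at h3
    exact cong_symm hM h3

section Normal

variable (K : Subgroup G) [K.Normal]

/-- The union of the conjugates by the elements of `S`. -/
def orbitOn (S : Subgroup G) (f : Set (Cfsg.IrrCharacter K)) : Set (Cfsg.IrrCharacter K) :=
  {ψ | ∃ x ∈ S, irrAutEquiv (sig K x) ψ ∈ f}

theorem moveSet_orbitOn (S : Subgroup G) (f : Set (Cfsg.IrrCharacter K)) {x : G} (hx : x ∈ S) :
    moveSet (sig K x) (orbitOn K S f) = orbitOn K S f := by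
  ext ψ
  show (∃ y ∈ S, irrAutEquiv (sig K y) (irrAutEquiv (sig K x) ψ) ∈ f) ↔ ∃ y ∈ S, _
  simp only [irrAut_sig_sig]
  exact ⟨fun ⟨y, hy, h⟩ => ⟨x * y, S.mul_mem hx hy, h⟩,
    fun ⟨y, hy, h⟩ => ⟨x⁻¹ * y, S.mul_mem (S.inv_mem hx) hy, by rwa [mul_inv_cancel_left]⟩⟩

theorem intEl_orbitOn (hM : Cfsg.IsPModular p M) (S : Subgroup G)
    {f : Set (Cfsg.IrrCharacter K)} (hf : Cfsg.IsPBlock M f) :
    IntEl M (elF K (orbitOn K S f)) :=
  intEl_inclEl hM K (intEl_blockIdem_union hM (by
    rintro ψ ⟨x, hxS, hx⟩ φ hφ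
    exact ⟨x, hxS, mem_of_sameBlock hM hf hx (sameBlock_comp (sig K x) (mem_blockOf.1 hφ))⟩))

end Normal

/-- An element of the normaliser acting as a `p`-element and of order prime to `p` centralises. -/
theorem mem_centralizer_of_mul {Q : Subgroup G} (hp : p.Prime) {x d c : G}
    (hx : x ∈ Subgroup.normalizer (Q : Set G)) (hxr : ¬ p ∣ orderOf x)
    (hd : ∃ k : ℕ, orderOf d = p ^ k) (hc : c ∈ Subgroup.centralizer (Q : Set G))
    (he : x = d * c) : x ∈ Subgroup.centralizer (Q : Set G) := by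
  have hcN : c ∈ Subgroup.normalizer (Q : Set G) := by
    rw [Subgroup.mem_normalizer_iff]
    intro q
    constructor
    · intro hq
      rwa [← Subgroup.mem_centralizer_iff.1 hc q hq, mul_inv_cancel_right]
    · intro hq
      have h := Subgroup.mem_centralizer_iff.1 hc _ hq
      rw [inv_mul_cancel_right] at h
      rwa [← mul_left_cancel h] at hq
  have hdN : d ∈ Subgroup.normalizer (Q : Set G) := by
    rw [show d = x * c⁻¹ by rw [he, mul_inv_cancel_right]]
    exact mul_mem hx (inv_mem hcN)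
  set N := Subgroup.normalizer (Q : Set G)
  set φ : N →* MulAut Q := Q.normalizerMonoidHom
  have hker : ∀ n : N, φ n = 1 ↔ (n : G) ∈ Subgroup.centralizer (Q : Set G) := fun n => by
    rw [← MonoidHom.mem_ker, Subgroup.normalizerMonoidHom_ker, Subgroup.mem_subgroupOf]
  have h1 : φ ⟨x, hx⟩ = φ ⟨d, hdN⟩ := by
    rw [show (⟨x, hx⟩ : N) = ⟨d, hdN⟩ * ⟨c, hcN⟩ from Subtype.ext he, map_mul,
      (hker ⟨c, hcN⟩).2 hc, mul_one]
  obtain ⟨k, hk⟩ := hd
  have h2 : orderOf (φ ⟨x, hx⟩) ∣ p ^ k := by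
    rw [h1, ← hk, ← Subgroup.orderOf_mk (H := N) d hdN]
    exact orderOf_map_dvd φ _
  have h3 : orderOf (φ ⟨x, hx⟩) ∣ orderOf x := by
    rw [← Subgroup.orderOf_mk (H := N) x hx]
    exact orderOf_map_dvd φ _
  exact (hker ⟨x, hx⟩).1 (orderOf_eq_one_iff.1 (Nat.eq_one_of_dvd_coprimes
    ((hp.coprime_iff_not_dvd.2 hxr).pow_left k) h2 h3))

/-- The criterion. -/
theorem isNilpotent_of_stab (hM : Cfsg.IsPModular p M) {B : Set (Cfsg.IrrCharacter G)}
    (hB : Cfsg.IsPBlock M B) {D : Subgroup G} [D.Normal] (hD : Cfsg.IsDefectGroup p M B D)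
    (hst : ∀ e : Set (Cfsg.IrrCharacter (Subgroup.centralizer (D : Set G))),
      Cfsg.IsBrauerPairOf p M B D e → stab D e ≤ D ⊔ Subgroup.centralizer (D : Set G)) :
    Cfsg.IsNilpotentBlock p M B := by
  classical
  haveI := fact_prime_of_pm hM
  refine ⟨hB, fun Q f hQf x hxN hxst hxr => ?_⟩
  obtain ⟨R, e, hmax, hle⟩ := exists_maximal_above hM hQf
  obtain ⟨a, ha⟩ := exists_defectGroup_conj_eq hM hB hD (isDefectGroup_of_maximal hM hmax)
  have hRD : R = D := by
    rw [ha]
    ext z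
    rw [mem_map_conj_iff]
    exact ⟨fun hz => by simpa [mul_assoc] using (inferInstance : D.Normal).conj_mem _ hz a,
      fun hz => by simpa using (inferInstance : D.Normal).conj_mem _ hz a⁻¹⟩
  subst hRD
  have hQR : Q ≤ R := (subpairLE_facts hM hle).1
  have hKCQ : (Subgroup.centralizer (R : Set G)) ≤ (Subgroup.centralizer (Q : Set G)) := centralizer_le_centralizer hQR
  set A := orbitOn (Subgroup.centralizer (R : Set G)) (Subgroup.centralizer (Q : Set G)) e with hA
  set A' := moveSet (sig (Subgroup.centralizer (R : Set G)) x) A with hA'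
  set X := elF (Subgroup.centralizer (R : Set G)) A with hXdef
  set Y := elF (Subgroup.centralizer (R : Set G)) A' with hYdef
  have hXint : IntEl M X := intEl_orbitOn (Subgroup.centralizer (R : Set G)) hM (Subgroup.centralizer (Q : Set G)) hmax.1.1.2
  have hXC : InvBy ((Subgroup.centralizer (Q : Set G)) : Set G) X := invBy_elF fun u hu =>
    (stabilizes_iff (mem_normalizer_normal (Subgroup.centralizer (R : Set G)) u) _).2 (moveSet_orbitOn (Subgroup.centralizer (R : Set G)) (Subgroup.centralizer (Q : Set G)) e hu)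
  have hXR : InvBy (R : Set G) X := invBy_elF fun u hu => stabilizes_centralizer _ hu
  -- the value at the pair below
  obtain ⟨ψ, hψf, hψn⟩ : ∃ ψ ∈ f, ¬ Cfsg.MemLocalIdeal M
      (omega (ψ : (Subgroup.centralizer (Q : Set G)) → ℂ) (br Q X)) := by
    by_contra hcon
    push Not at hcon
    obtain ⟨η, hη⟩ := block_nonempty hM hmax.1.1.2
    have h := ideal_of_subpairLE hM hXint (elF_mul_self _ _) hle hXC hcon hXR η hη
    rw [hXdef, br, elF, restrEl_inclEl, omega_blockIdem_mem (show η ∈ A from ⟨1, Subgroup.one_mem _, by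
      rw [show irrAutEquiv (sig (Subgroup.centralizer (R : Set G)) (1 : G)) η = η from Subtype.ext (funext fun k =>
        congrArg (η : (Subgroup.centralizer (R : Set G)) → ℂ) (Subtype.ext (by simp [coe_sig])))]
      exact hη⟩)] at h
    exact not_ideal_one hM h
  -- the conjugate idempotent
  have hxC : x ∈ Subgroup.normalizer ((Subgroup.centralizer (Q : Set G)) : Set G) :=
    normalizer_le_normalizer_centralizer Q hxN
  set σ := conjK hxC
  have hσf : moveSet σ f = f := (stabilizes_iff hxC f).1 hxst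
  have hYX : ∀ g : G, Y.coeff g = X.coeff (x⁻¹ * g * x) := by
    intro g
    by_cases hg : g ∈ (Subgroup.centralizer (R : Set G))
    · have hg' : x⁻¹ * g * x ∈ (Subgroup.centralizer (R : Set G)) := by
        simpa using (inferInstance : (Subgroup.centralizer (R : Set G)).Normal).conj_mem g hg x⁻¹
      rw [hYdef, hXdef, elF, elF, coeff_inclEl_of_mem _ _ hg, coeff_inclEl_of_mem _ _ hg',
        coeff_blockIdem, coeff_blockIdem, hA', blockCoeff_moveSet]
      rfl
    · rw [hYdef, hXdef, elF, elF, coeff_inclEl_notMem _ _ hg, coeff_inclEl_notMem]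
      intro h
      exact hg (by simpa [mul_assoc] using (inferInstance : (Subgroup.centralizer (R : Set G)).Normal).conj_mem _ h x)
  have hYint : IntEl M Y := fun g => by rw [hYX]; exact hXint _
  have hYC : InvBy ((Subgroup.centralizer (Q : Set G)) : Set G) Y := fun u hu g => by
    rw [hYX, hYX, show x⁻¹ * (u * g * u⁻¹) * x =
      (x⁻¹ * u * x) * (x⁻¹ * g * x) * (x⁻¹ * u * x)⁻¹ by group]
    exact hXC _ (by simpa using (Subgroup.mem_normalizer_iff.1 (inv_mem hxC) u).1 hu) _
  have hYR : InvBy (R : Set G) Y := invBy_elF fun u hu => stabilizes_centralizer _ hu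
  have hYψ : ∀ ξ : Cfsg.IrrCharacter (Subgroup.centralizer (Q : Set G)), omega (ξ : (Subgroup.centralizer (Q : Set G)) → ℂ) (br Q Y) =
      omega ((irrAutEquiv σ ξ : Cfsg.IrrCharacter (Subgroup.centralizer (Q : Set G))) : (Subgroup.centralizer (Q : Set G)) → ℂ) (br Q X) := by
    intro ξ
    haveI := Fintype.ofFinite (Subgroup.centralizer (Q : Set G))
    rw [omega, omega, evalChar_eq_sum, evalChar_eq_sum,
      show ((irrAutEquiv σ ξ : Cfsg.IrrCharacter (Subgroup.centralizer (Q : Set G))) : (Subgroup.centralizer (Q : Set G)) → ℂ) = (ξ : (Subgroup.centralizer (Q : Set G)) → ℂ) ∘ σ from rfl,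
      Function.comp_apply, map_one]
    congr 1
    refine (Fintype.sum_equiv σ.toEquiv _ _ fun c => ?_).symm
    show (br Q X).coeff c * (ξ : (Subgroup.centralizer (Q : Set G)) → ℂ) (σ c) = (br Q Y).coeff (σ c) * (ξ : (Subgroup.centralizer (Q : Set G)) → ℂ) (σ c)
    rw [br, br, coeff_restrEl, coeff_restrEl, hYX, coe_conjK,
      show x⁻¹ * (x * (c : G) * x⁻¹) * x = (c : G) by group]
  -- both idempotents are nonzero at `f`
  have hXψ : ∀ φ ∈ f, ¬ Cfsg.MemLocalIdeal M (omega (φ : (Subgroup.centralizer (Q : Set G)) → ℂ) (br Q X)) := fun φ hφ h =>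
    hψn ((ideal_iff_of_cong hM (omega_cong_of_mem hM hQf.1.2 hψf hφ (central_br hXC)
      (intEl_restrEl _ hXint))).2 h)
  obtain ⟨φ, hφA, hφA'⟩ : ∃ φ, φ ∈ A ∧ φ ∈ A' := by
    by_contra hcon
    push Not at hcon
    have hXY : X * Y = 0 := by
      rw [hXdef, hYdef, elF, elF, ← map_mul, blockIdem_mul,
        show A ∩ A' = ∅ from Set.eq_empty_iff_forall_notMem.2 fun φ h => hcon φ h.1 h.2,
        show blockIdem (∅ : Set (Cfsg.IrrCharacter (Subgroup.centralizer (R : Set G)))) = 0 from el_ext fun g => by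
          simp [coeff_blockIdem, Cfsg.blockCoeff], map_zero]
    have hQp := hQf.1.1
    have h := omega_br_mul hM hQp ψ hXint hYint (invBy_mono hQR hXR) (invBy_mono hQR hYR) hXC hYC
      (by rw [hXY]; exact invBy_zero _)
    rw [hXY, omega_br_zero] at h
    have h2 := (ideal_iff_of_cong hM h).1 (ideal_zero hM)
    rw [ideal_mul_iff hM (omega_br_ring hM ψ hXint hXC) (omega_br_ring hM ψ hYint hYC)] at h2
    rcases h2 with h2 | h2
    · exact hψn h2
    · rw [hYψ] at h2
      refine hXψ _ ?_ h2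
      have : ψ ∈ moveSet σ f := by rw [hσf]; exact hψf
      exact this
  obtain ⟨c₁, hc₁, h1⟩ := hφA
  obtain ⟨c₂, hc₂, h2⟩ := (show irrAutEquiv (sig (Subgroup.centralizer (R : Set G)) x) φ ∈ A from hφA')
  rw [irrAut_sig_sig] at h2
  have heq : moveSet (sig (Subgroup.centralizer (R : Set G)) c₁) e = moveSet (sig (Subgroup.centralizer (R : Set G)) (x * c₂)) e :=
    block_eq_of_mem hM (isPBlock_moveSet hM _ hmax.1.1.2) (isPBlock_moveSet hM _ hmax.1.1.2) h1 h2
  have hmem : c₁⁻¹ * (x * c₂) ∈ stab R e :=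
    mem_stab.2 ⟨mem_normalizer_normal R _, (moveSet_sig_eq_iff (Subgroup.centralizer (R : Set G)) _ _ e).1 heq⟩
  have hmul : ((R ⊔ (Subgroup.centralizer (R : Set G)) : Subgroup G) : Set G) = (R : Set G) * ((Subgroup.centralizer (R : Set G)) : Set G) :=
    Subgroup.normal_mul R (Subgroup.centralizer (R : Set G))
  have hin : c₁⁻¹ * (x * c₂) ∈ (R : Set G) * ((Subgroup.centralizer (R : Set G)) : Set G) :=
    hmul ▸ hst e hmax.1 hmem
  obtain ⟨d, hd, k, hk, hdk⟩ := Set.mem_mul.1 hin
  have hnN : ∀ y ∈ (Subgroup.centralizer (Q : Set G)), y ∈ Subgroup.normalizer (Q : Set G) := fun y hy =>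
    centralizer_le_normalizer' Q hy
  have hdN : d ∈ Subgroup.normalizer (Q : Set G) := by
    rw [show d = c₁⁻¹ * (x * c₂) * k⁻¹ by rw [← hdk, mul_inv_cancel_right]]
    exact mul_mem (mul_mem (inv_mem (hnN _ hc₁)) (mul_mem hxN (hnN _ hc₂)))
      (inv_mem (hnN _ (hKCQ hk)))
  have hc' : d⁻¹ * c₁ * d ∈ (Subgroup.centralizer (Q : Set G)) := by
    simpa using (Subgroup.mem_normalizer_iff.1
      (normalizer_le_normalizer_centralizer Q (inv_mem hdN)) c₁).1 hc₁
  refine mem_centralizer_of_mul hM.1 hxN hxr ?_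
    ((Subgroup.centralizer (Q : Set G)).mul_mem ((Subgroup.centralizer (Q : Set G)).mul_mem hc' (hKCQ hk)) ((Subgroup.centralizer (Q : Set G)).inv_mem hc₂))
    (d := d) ?_
  · obtain ⟨j, hj⟩ := IsPGroup.iff_orderOf.1 (isPGroup_defect hD) ⟨d, hd⟩
    exact ⟨j, by rwa [Subgroup.orderOf_mk] at hj⟩
  · calc x = c₁ * (c₁⁻¹ * (x * c₂)) * c₂⁻¹ := by group
      _ = c₁ * (d * k) * c₂⁻¹ := by rw [hdk]
      _ = d * (d⁻¹ * c₁ * d * k * c₂⁻¹) := by group

/-- The block of `D C(D)` over a pair at `D`: covered by the block, and stable under the stabiliser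
of the pair. -/
theorem exists_covered_stable [Fintype G] (hM : Cfsg.IsPModular p M)
    {B : Set (Cfsg.IrrCharacter G)} {D : Subgroup G} [D.Normal]
    {e : Set (Cfsg.IrrCharacter (Subgroup.centralizer (D : Set G)))}
    (he : Cfsg.IsBrauerPairOf p M B D e) {H : Subgroup G} [H.Normal] [Fintype H]
    (hH : H = D ⊔ Subgroup.centralizer (D : Set G)) :
    ∃ b : Set (Cfsg.IrrCharacter H), Cfsg.IsPBlock M b ∧
      (∃ χ ∈ B, ∃ η ∈ b, Cfsg.classInner (fun n : H => (χ : G → ℂ) n) (η : H → ℂ) ≠ 0) ∧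
      ∀ g ∈ stab D e, ∀ η ∈ b, conjIrr g η ∈ b := by
  classical
  haveI := Fintype.ofFinite (Subgroup.centralizer (D : Set G))
  haveI := Fintype.ofFinite (Cfsg.IrrCharacter (Subgroup.centralizer (D : Set G)))
  haveI := Fintype.ofFinite (Cfsg.IrrCharacter H)
  have hCH : (Subgroup.centralizer (D : Set G)) ≤ H := hH ▸ le_sup_right
  have hDH : D ≤ H := hH ▸ le_sup_left
  have hHst : H ≤ stab D e := hH ▸ sup_le le_stab centralizer_le_stab
  obtain ⟨⟨hDp, heB⟩, hB, hω⟩ := he
  obtain ⟨b, hb, hbe⟩ := exists_stab_block' hM hDp heB H hCH hDH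
    (hHst.trans stab_le_normalizer) fun x hx => (mem_stab.1 (hHst hx)).2
  have hcoef : ∀ n : H, Cfsg.blockCoeff b n = (elF (Subgroup.centralizer (D : Set G)) e).coeff (n : G) := fun n => by
    rw [← coeff_blockIdem, hbe, coeff_restrEl]
  refine ⟨b, hb, ?_, fun g hg η hη => ?_⟩
  swap
  · have h : conjIrr g '' b = b := set_eq_of_blockCoeff fun n => by
      rw [← FongReynolds.blockCoeff_conjNormal, hcoef, hcoef, MulAut.conjNormal_apply]
      exact hg.2 _
    rw [← h]
    exact Set.mem_image_of_mem _ hη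
  obtain ⟨η₀, hη₀⟩ := block_nonempty hM heB
  obtain ⟨χ, hχ⟩ := NormalSupport.exists_over (G := G) η₀
  refine ⟨χ, ?_, ?_⟩
  · -- `χ` is in `B`
    by_contra hn
    have hsupp : NormalSupport.push (Subgroup.centralizer (D : Set G)) (NormalSupport.res (Subgroup.centralizer (D : Set G)) (blockIdem B)) = blockIdem B :=
      NormalSupport.push_res fun g hg => blockIdem_supp hM hDp hB g hg
    have h1 : omega (χ : G → ℂ) (blockIdem B) = omega (η₀ : (Subgroup.centralizer (D : Set G)) → ℂ) (br D (blockIdem B)) := by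
      conv_lhs => rw [← hsupp]
      rw [NormalSupport.omega_push_eq χ η₀ hχ (NormalSupport.isInvEl_res (central_blockIdem B)),
        res_eq_restrEl]
      rfl
    have h2 := hω η₀ hη₀
    rw [brauerOmega_block, ← h1, omega_blockIdem_notMem hn] at h2
    exact not_cong_zero_one hM h2
  · by_contra hcon
    push Not at hcon
    have hsum : ∑ c : (Subgroup.centralizer (D : Set G)), Cfsg.blockCoeff e c * (χ : G → ℂ) c =
        ∑ n : H, Cfsg.blockCoeff b n * (χ : G → ℂ) n := by
      refine Fintype.sum_of_injective (Subgroup.inclusion hCH) (Subgroup.inclusion_injective hCH)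
        _ _ (fun n hn => ?_) fun c => ?_
      · rw [hcoef, elF, coeff_inclEl_notMem _ _ fun h => hn ⟨⟨(n : G), h⟩, Subtype.ext rfl⟩,
          zero_mul]
      · rw [hcoef, Subgroup.coe_inclusion, elF, coeff_inclEl_of_mem _ _ c.2, coeff_blockIdem]
    rw [FongReynolds.sum_blockCoeff_mul e (fun c : (Subgroup.centralizer (D : Set G)) => (χ : G → ℂ) c),
      FongReynolds.sum_blockCoeff_mul b (fun n : H => (χ : G → ℂ) n),
      Finset.sum_eq_zero (f := fun η : Cfsg.IrrCharacter H => if η ∈ b then (η : H → ℂ) 1 *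
        Cfsg.classInner (fun n : H => (χ : G → ℂ) n) (η : H → ℂ) else 0) fun η _ => by
        split
        · rw [hcon η ‹_›, mul_zero]
        · rfl] at hsum
    choose m hm using fun θ : Cfsg.IrrCharacter (Subgroup.centralizer (D : Set G)) =>
      classInner_char_nat (isCharacter_restrict (Subgroup.centralizer (D : Set G)) (irr_isCharacter χ)) (irr_isCharacter θ)
    choose d hd using fun θ : Cfsg.IrrCharacter (Subgroup.centralizer (D : Set G)) => irr_one_pos θ.2
    rw [Finset.sum_congr rfl (g := fun θ => ((if θ ∈ e then d θ * m θ else 0 : ℕ) : ℂ))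
      (fun θ _ => by split <;> simp [hm, (hd θ).2]), ← Nat.cast_sum, Nat.cast_eq_zero,
      Finset.sum_eq_zero_iff] at hsum
    have h2 := hsum η₀ (Finset.mem_univ _)
    rw [if_pos hη₀, mul_eq_zero] at h2
    rcases h2 with h | h
    · exact (hd η₀).1.ne' h
    · exact hχ (by rw [hm η₀, h, Nat.cast_zero])

end Cfsg.Agent.Blocks.EqualDegree
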