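import Mathlib
import Cfsg.Agent.Lib.Blocks.EqualDegree.Core
import Cfsg.Agent.Lib.Blocks.NormalDefect
import Cfsg.Agent.Lib.Blocks.FongReynolds
import Cfsg.Agent.Lib.Blocks.Inflation
import Cfsg.Agent.Lib.Coprime.Commutator
import Cfsg.Agent.Lib.Coprime.PGroup

/-!
# Equal height-zero degrees force inertial index one

For a block with normal defect group `D` all of whose height-zero characters have the same degree,
a block of `D C(D)` covered by it has stabiliser `D C(D)`.
-/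

set_option linter.style.haveILetI false
set_option linter.unusedSectionVars false

namespace Cfsg.Agent.Blocks.EqualDegree

open Cfsg.Agent.Characters Cfsg.Agent.Blocks Cfsg.Agent.CharTheory
open Cfsg.Agent.BlockCharsA.NormalSupport Cfsg.Agent.Blocks.FongReynolds
open scoped commutatorElement

universe u

variable {G : Type u} [Group G] [Finite G] {p : ℕ} {M : Ideal Cfsg.AlgInt}

section Kernel

variable {T : Type u} [Group T] [Finite T]

/-- In a group with normal `p`-subgroup `D` and `H = D C(D)` of index prime to `p`, only `H`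
centralises the abelianisation of `D`. -/
theorem centralizer_abelianisation [Fact p.Prime] {D H : Subgroup T} [D.Normal] [H.Normal]
    (hD : IsPGroup p D) (hH : H = D ⊔ Subgroup.centralizer (D : Set T)) (hidx : ¬ p ∣ H.index) :
    Subgroup.centralizer ((D.map (QuotientGroup.mk' ⁅D, D⁆) : Subgroup (T ⧸ ⁅D, D⁆)) :
      Set (T ⧸ ⁅D, D⁆)) = H.map (QuotientGroup.mk' ⁅D, D⁆) := by
  set π := QuotientGroup.mk' ⁅D, D⁆
  set V := D.map π
  have hcomm : ∀ a ∈ D, ∀ b ∈ D, π a * π b = π b * π a := fun a ha b hb => by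
    rw [← map_mul, ← map_mul]
    refine (QuotientGroup.eq.2 ?_)
    rw [show (a * b)⁻¹ * (b * a) = ⁅b⁻¹, a⁻¹⁆ by rw [commutatorElement_def]; group]
    exact Subgroup.commutator_mem_commutator (D.inv_mem hb) (D.inv_mem ha)
  have hle : H ≤ (Subgroup.centralizer (V : Set (T ⧸ ⁅D, D⁆))).comap π := by
    rw [hH]
    refine sup_le (fun h hh => ?_) (fun h hh => ?_)
    · rintro _ ⟨d, hd, rfl⟩
      exact hcomm d hd h hh
    · rintro _ ⟨d, hd, rfl⟩
      rw [← map_mul, ← map_mul, hh d hd]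
  refine le_antisymm (fun q hq => ?_) (Subgroup.map_le_iff_le_comap.2 hle)
  obtain ⟨t, rfl⟩ := QuotientGroup.mk'_surjective _ q
  refine Subgroup.mem_map_of_mem _ ?_
  obtain ⟨x, hx⟩ := exists_ppart (Fact.out : p.Prime) t
  obtain ⟨y, hxy, -, ⟨k, hk⟩, hy⟩ := hx
  have hxH : x ∈ H := by
    rw [← QuotientGroup.eq_one_iff, ← orderOf_eq_one_iff]
    refine Nat.eq_one_of_dvd_coprimes
      (((Fact.out : p.Prime).coprime_iff_not_dvd.2 hidx).pow_left k)
      (hk ▸ orderOf_map_dvd (QuotientGroup.mk' H) x) ?_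
    rw [Subgroup.index_eq_card]
    exact orderOf_dvd_natCard _
  have hyc : π y ∈ Subgroup.centralizer (V : Set (T ⧸ ⁅D, D⁆)) := by
    rw [show y = x⁻¹ * t by rw [← hxy, inv_mul_cancel_left], map_mul, map_inv]
    exact mul_mem (inv_mem (hle hxH)) hq
  rw [← hxy]
  refine H.mul_mem hxH (hH ▸ Subgroup.mem_sup_right ?_)
  haveI := hD.isNilpotent
  refine Coprime.le_centralizer_of_frattini (A := Subgroup.zpowers y) (K := D) ?_ ?_ ?_
    (Subgroup.mem_zpowers y)
  · rw [Subgroup.normalizer_eq_top]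
    exact le_top
  · obtain ⟨j, hj⟩ := hD.exists_card_eq
    obtain ⟨i, -, hi⟩ := (Nat.dvd_prime_pow (Fact.out : p.Prime)).1
      (hj ▸ Subgroup.card_subgroup_dvd_card (frattini D))
    rw [Nat.card_zpowers, hi]
    exact ((Fact.out : p.Prime).coprime_iff_not_dvd.2 hy).symm.pow_right i
  · intro a ha d hd
    have h1 : π a ∈ Subgroup.centralizer (V : Set (T ⧸ ⁅D, D⁆)) := by
      obtain ⟨z, rfl⟩ := Subgroup.mem_zpowers_iff.1 ha
      rw [map_zpow]
      exact Subgroup.zpow_mem _ hyc z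
    have h2 : a * d * a⁻¹ * d⁻¹ ∈ ⁅D, D⁆ := by
      rw [← QuotientGroup.eq_one_iff]
      show π (a * d * a⁻¹ * d⁻¹) = 1
      rw [map_mul, map_mul, map_mul, map_inv, map_inv,
        ← h1 (π d) (Subgroup.mem_map_of_mem π hd)]
      group
    rw [← Subgroup.map_subtype_commutator] at h2
    exact Subgroup.map_mono (Coprime.commutator_le_frattini D) h2

end Kernel

/-- Equal degrees in height zero force inertial index one. -/
theorem stab_le_of_equal_degrees (hM : Cfsg.IsPModular p M) {B : Set (Cfsg.IrrCharacter G)}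
    (hB : Cfsg.IsPBlock M B) {D : Subgroup G} [D.Normal] (hD : Cfsg.IsDefectGroup p M B D)
    {d : ℕ} (hd : ∀ χ ∈ B, Cfsg.blockHeight p B (χ : G → ℂ) = 0 →
      Cfsg.charDegree (χ : G → ℂ) = d)
    {H : Subgroup G} [H.Normal] [Fintype H]
    (hH : H = D ⊔ Subgroup.centralizer (D : Set G))
    {b : Set (Cfsg.IrrCharacter H)} (hb : Cfsg.IsPBlock M b)
    (hcov : ∃ χ ∈ B, ∃ η ∈ b, Cfsg.classInner (fun n : H => (χ : G → ℂ) n) (η : H → ℂ) ≠ 0)
    {g₀ : G} (hg₀ : ∀ η ∈ b, conjIrr g₀ η ∈ b) : g₀ ∈ H := by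
  classical
  haveI := fact_prime_of_pm hM
  haveI := Fintype.ofFinite G
  have hDH : D ≤ H := hH ▸ le_sup_left
  have hCH : Subgroup.centralizer (D : Set G) ≤ H := hH ▸ le_sup_right
  have hDp := isPGroup_defect hD
  obtain ⟨χ₀, hχ₀, η₀, hη₀, hne₀⟩ := hcov
  have hind : Cfsg.IsInducedBlock M H b B :=
    isInduced_of_covers hM hDp hCH hb hB hχ₀ hη₀ hne₀
  set P := D.subgroupOf H with hP
  haveI : P.Normal := Subgroup.Normal.subgroupOf ‹D.Normal› H
  have hbdef : Cfsg.IsDefectGroup p M b P := by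
    obtain ⟨E, hE⟩ := exists_defectGroup hM hb
    have hle : P ≤ E := normal_le_defect hM (isPGroup_subgroupOf hDp hDH) hb hE
    obtain ⟨F, hF, hEF⟩ := exists_defect_le_of_induced hM hind hE
    obtain ⟨x, rfl⟩ := exists_defectGroup_conj_eq hM hB hD hF
    rwa [eq_of_le_of_card_le hle (by
      rw [← Subgroup.card_map_of_injective H.subtype_injective,
        Nat.card_congr (Subgroup.subgroupOfEquivOfLe hDH).toEquiv, ← card_map_conj D x]
      exact Subgroup.card_le_of_le hEF)]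
  have hfull : P ⊔ Subgroup.centralizer (P : Set H) = ⊤ := by
    apply Subgroup.map_injective H.subtype_injective
    rw [Subgroup.map_sup, hP, map_subgroupOf_eq hDH, ← MonoidHom.range_eq_map,
      Subgroup.range_subtype, show (Subgroup.centralizer ((D.subgroupOf H : Subgroup H) : Set H)).map
        H.subtype = Subgroup.centralizer (D : Set G) from ?_, hH]
    ext z
    constructor
    · rintro ⟨w, hw, rfl⟩
      exact (mem_centralizer_subgroupOf hDH).1 hw
    · intro hz
      exact ⟨⟨z, hCH hz⟩, (mem_centralizer_subgroupOf hDH).2 hz, rfl⟩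
  obtain ⟨θ, hθb, hθinv, hθdeg, -⟩ :=
    exists_canonical hfull hM (isPGroup_subgroupOf hDp hDH) hb hbdef
  obtain ⟨⟨θ₀, -, huniq⟩, -, -⟩ :=
    full_centralizer_block hfull hM (isPGroup_subgroupOf hDp hDH) hb hbdef
  have hθtriv : ∀ x ∈ P, (θ : H → ℂ) x = (θ : H → ℂ) 1 := fun x hx => by
    rw [← one_mul x]
    exact hθinv 1 x hx
  -- the stabiliser
  let T : Subgroup G :=
    { carrier := {g | Clifford.conjBy H g (θ : H → ℂ) = θ}
      one_mem' := Clifford.conjBy_one H _
      mul_mem' := fun {a c} ha hc => by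
        show Clifford.conjBy H (a * c) _ = _
        rw [← Clifford.conjBy_conjBy H c a, ha, hc]
      inv_mem' := fun {a} ha => by
        show Clifford.conjBy H a⁻¹ _ = _
        apply Clifford.conjBy_injective H a
        rw [Clifford.conjBy_conjBy, inv_mul_cancel, Clifford.conjBy_one, ha] }
  have hs : ∀ g, g ∈ T ↔ ∀ η ∈ b, conjIrr g η ∈ b := by
    intro g
    constructor
    · intro hg η hη
      have h1 : conjIrr g θ = θ := Subtype.ext hg
      exact mem_of_sameBlock hM hb hθb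
        (h1 ▸ sameBlock_conjIrr g (sameBlock_of_mem hM hb hθb hη))
    · intro h
      have h2 : conjIrr g θ = θ₀ := huniq _ ⟨h θ hθb, fun x hx => by
        rw [coe_conjIrr, Clifford.conjBy_apply, Clifford.conjBy_at_one]
        exact hθtriv _ (Subgroup.mem_subgroupOf.2 ((inferInstance : D.Normal).conj_mem _
          (Subgroup.mem_subgroupOf.1 hx) g))⟩
      have h3 : θ = θ₀ := huniq _ ⟨hθb, hθtriv⟩
      exact congrArg Subtype.val (h2.trans h3.symm)
  have hHT : H ≤ T := fun a ha => funext fun n => by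
    rw [Clifford.conjBy_apply, ← irr_isClassFunction θ n ⟨a, ha⟩]
    exact congrArg _ (Subtype.ext rfl)
  refine (?_ : T ≤ H) ((hs g₀).2 hg₀)
  obtain ⟨χ, hχθ⟩ := exists_over (G := G) θ
  have hcovB : ∀ (χ' : Cfsg.IrrCharacter G) (η : Cfsg.IrrCharacter H), η ∈ b →
      Cfsg.classInner (fun n : H => (χ' : G → ℂ) n) (η : H → ℂ) ≠ 0 → χ' ∈ B := by
    intro χ' η hη hne
    have h := isInduced_of_covers hM hDp hCH hb (isPBlock_blockOf M χ') (mem_blockOf_self hM χ')
      hη hne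
    rw [isInduced_unique hM hind h]
    exact mem_blockOf_self hM χ'
  have hHTidx : ¬ p ∣ H.relIndex T := by
    obtain ⟨S⟩ : Nonempty (Sylow p T) := inferInstance
    have hSH : (S : Subgroup T) ≤ H.subgroupOf T := fun s hsS => by
      obtain ⟨k, hk⟩ := IsPGroup.iff_orderOf.1 S.isPGroup' ⟨s, hsS⟩
      rw [Subgroup.orderOf_mk] at hk
      refine Subgroup.mem_subgroupOf.2 (mem_of_stabilizes hM hD hDH hCH (hcovB χ θ hθb hχθ) hχθ
        (k := k) (by rw [← hk, ← Subgroup.orderOf_coe, pow_orderOf_eq_one]) ?_)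
      rw [show conjIrr (s : G) θ = θ from Subtype.ext s.2]
      exact sameBlock_refl hM _
    exact fun h => S.not_dvd_index (h.trans (Subgroup.index_dvd_of_le hSH))
  -- inside the stabiliser
  have hDT : D ≤ T := hDH.trans hHT
  set DT := D.subgroupOf T with hDTdef
  haveI : DT.Normal := Subgroup.Normal.subgroupOf ‹D.Normal› T
  set HT := H.subgroupOf T with hHTdef
  haveI : HT.Normal := Subgroup.Normal.subgroupOf ‹H.Normal› T
  haveI := Fintype.ofFinite T
  haveI := Fintype.ofFinite HT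
  have hDTp : IsPGroup p DT := isPGroup_subgroupOf hDp hDT
  have hHTeq : HT = DT ⊔ Subgroup.centralizer (DT : Set T) := by
    apply Subgroup.map_injective T.subtype_injective
    rw [Subgroup.map_sup, hHTdef, hDTdef, map_subgroupOf_eq hHT, map_subgroupOf_eq hDT,
      show (Subgroup.centralizer ((D.subgroupOf T : Subgroup T) : Set T)).map T.subtype =
        Subgroup.centralizer (D : Set G) from ?_, hH]
    ext z
    constructor
    · rintro ⟨w, hw, rfl⟩
      exact (mem_centralizer_subgroupOf hDT).1 hw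
    · intro hz
      exact ⟨⟨z, hHT (hCH hz)⟩, (mem_centralizer_subgroupOf hDT).2 hz, rfl⟩
  set ε : HT ≃* H := Subgroup.subgroupOfEquivOfLe hHT
  let θT : Cfsg.IrrCharacter HT := ⟨_, (isIrrCharacter_comp_mulEquiv ε).2 θ.2⟩
  obtain ⟨ψ, hψθ⟩ := exists_over (G := T) θT
  have hψres : (fun n : HT => (ψ : T → ℂ) n) =
      Cfsg.classInner (fun n : HT => (ψ : T → ℂ) n) (θT : HT → ℂ) • (θT : HT → ℂ) :=
    Clifford.restrict_eq_smul_of_invariant HT ψ.2 θT.2 hψθ fun t => funext fun n => by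
      have h := congrFun (show Clifford.conjBy H (t : G) (θ : H → ℂ) = θ from t.2) (ε n)
      rw [Clifford.conjBy_apply] at h ⊢
      exact h
  obtain ⟨m, hm⟩ := classInner_char_nat (isCharacter_restrict HT (irr_isCharacter ψ))
    (irr_isCharacter θT)
  rw [hm] at hψres
  have hm0 : m ≠ 0 := fun h => hψθ (by rw [hm, h, Nat.cast_zero])
  have hψH : ∀ n : H, (ψ : T → ℂ) ⟨n, hHT n.2⟩ = (m : ℂ) * (θ : H → ℂ) n := fun n =>
    congrFun hψres (ε.symm n)
  have hψcov : CoversOnly hHT b (ψ : T → ℂ) := by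
    refine (coversOnly_iff_constituent hs hHT ψ).2 ⟨θ, hθb, ?_⟩
    rw [show (fun n : H => (ψ : T → ℂ) ⟨(n : G), hHT n.2⟩) = (m : ℂ) • (θ : H → ℂ) from
      funext fun n => hψH n, classInner_smul_left, classInner_irr, if_pos rfl, mul_one]
    exact Nat.cast_ne_zero.2 hm0
  have hψtriv : ∀ t ∈ DT, (ψ : T → ℂ) t = (ψ : T → ℂ) 1 := fun t ht => by
    have h1 := hψH ⟨t, hDH (Subgroup.mem_subgroupOf.1 ht)⟩
    have h2 := hψH 1
    rw [hθtriv _ (Subgroup.mem_subgroupOf.2 (Subgroup.mem_subgroupOf.1 ht)), ← h2] at h1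
    exact h1
  have hψdeg : DT.index.factorization p ≤ (Cfsg.charDegree (ψ : T → ℂ)).factorization p := by
    have h1 : Cfsg.charDegree (ψ : T → ℂ) = m * Cfsg.charDegree (θ : H → ℂ) := by
      apply Nat.cast_injective (R := ℂ)
      rw [Nat.cast_mul, charDegree_cast, charDegree_cast]
      exact hψH 1
    have h2 : P.index * H.relIndex T = DT.index := Subgroup.relIndex_mul_relIndex D H T hDH hHT
    rw [h1, Nat.factorization_mul hm0 (charDegree_pos θ).ne', Finsupp.add_apply, hθdeg, ← h2,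
      Nat.factorization_mul P.index_ne_zero_of_finite (fun h => hHTidx (by rw [h]; exact dvd_zero p)),
      Finsupp.add_apply, Nat.factorization_eq_zero_of_not_dvd hHTidx]
    omega
  -- the quotient by the derived subgroup of `D`
  set N₀ := ⁅DT, DT⁆ with hN₀
  set π := QuotientGroup.mk' N₀ with hπ
  have hπs : Function.Surjective π := QuotientGroup.mk'_surjective N₀
  have hN₀D : N₀ ≤ DT := Subgroup.commutator_le_self DT
  set V := DT.map π with hV
  haveI : V.Normal := Subgroup.Normal.map ‹DT.Normal› π hπs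
  have hVp : IsPGroup p V := hDTp.map π
  set CV := Subgroup.centralizer (V : Set (T ⧸ N₀)) with hCV
  haveI := Fintype.ofFinite CV
  have hCVeq : CV = HT.map π := centralizer_abelianisation hDTp hHTeq hHTidx
  haveI : CV.Normal := by rw [hCV]; infer_instance
  obtain ⟨ζ₀, -, hζψ, hζirr⟩ := exists_deflate_quotient N₀ (irr_isCharacter ψ)
    fun t ht => hψtriv t (hN₀D ht)
  let ζ : Cfsg.IrrCharacter (T ⧸ N₀) := ⟨ζ₀, hζirr ψ.2⟩
  have hζψ' : ∀ t : T, (ζ : T ⧸ N₀ → ℂ) (π t) = (ψ : T → ℂ) t := hζψ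
  have hVidx : V.index = DT.index :=
    Subgroup.index_map_eq DT hπs (by rw [hπ, QuotientGroup.ker_mk']; exact hN₀D)
  have hdegζ : Cfsg.charDegree (ζ : T ⧸ N₀ → ℂ) = Cfsg.charDegree (ψ : T → ℂ) := by
    simp only [Cfsg.charDegree, ← hζψ', map_one]
  have htriv : ∀ v ∈ V, (ζ : T ⧸ N₀ → ℂ) v = (ζ : T ⧸ N₀ → ℂ) 1 := by
    rintro _ ⟨t, ht, rfl⟩
    rw [hζψ', hψtriv t ht, ← hζψ', map_one]
  have hVC : V ≤ CV := by
    rw [hCVeq]
    exact Subgroup.map_mono (hHTeq ▸ le_sup_left)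
  have hVab : ∀ a ∈ V, ∀ c ∈ V, a * c = c * a := fun a ha c hc => (hVC hc) a ha
  -- the degrees over `b`
  have hover : ∀ χ' : Cfsg.IrrCharacter (T ⧸ N₀),
      χ' ∈ Cfsg.blockOf M (ζ : T ⧸ N₀ → ℂ) →
      T.index * Cfsg.charDegree (χ' : T ⧸ N₀ → ℂ) = d := by
    intro χ' hχ'
    let φ : Cfsg.IrrCharacter T := ⟨_, isIrrCharacter_comp_surjective π hπs χ'.2⟩
    have hsame : Cfsg.SameBlock M (ψ : T → ℂ) (φ : T → ℂ) := by
      have h := sameBlock_inflate hM π hπs (χ := ζ) (ψ := χ') (mem_blockOf.1 hχ')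
      rwa [show ((ζ : T ⧸ N₀ → ℂ) ∘ π) = (ψ : T → ℂ) from funext hζψ'] at h
    have hφcov := coversOnly_of_sameBlock hM hb hs hHT hsame hψcov
    let X : Cfsg.IrrCharacter G := ⟨_, isIrr_indFun hM hb hs hHT φ hφcov⟩
    obtain ⟨η, hη, hne⟩ := exists_constituent_indFun hM hb hs hHT φ hφcov
    have hXB : X ∈ B := hcovB X η hη hne
    have hXdeg : Cfsg.charDegree (X : G → ℂ) = T.index * Cfsg.charDegree (χ' : T ⧸ N₀ → ℂ) := by
      rw [charDegree_indFun X φ rfl]
      simp [φ, Cfsg.charDegree]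
    rw [← hXdeg]
    refine hd X hXB ?_
    obtain ⟨k, hk, hkdvd⟩ := Ito.degree_dvd_index_abelian V hVab χ'.2
    have hk' : Cfsg.charDegree (χ' : T ⧸ N₀ → ℂ) = k :=
      Nat.cast_injective ((charDegree_cast χ').trans hk)
    have hdvd : Cfsg.charDegree (X : G → ℂ) ∣ D.index := by
      rw [hXdeg, ← Subgroup.relIndex_mul_index hDT, mul_comm, hk']
      exact Nat.mul_dvd_mul_right (hkdvd.trans (dvd_of_eq hVidx)) _
    have h1 := (Nat.factorization_le_iff_dvd (charDegree_pos X).ne' D.index_ne_zero_of_finite).2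
      hdvd p
    have h2 := degree_factorization_eq hM hB hXB
    have h3 := factorization_index_add D p
    rw [card_defectGroup hM hB hD, hM.1.factorization_pow, Finsupp.single_eq_same] at h3
    omega
  have hequal : ∀ χ' ∈ Cfsg.blockOf M (ζ : T ⧸ N₀ → ℂ),
      Cfsg.charDegree (χ' : T ⧸ N₀ → ℂ) = Cfsg.charDegree (ζ : T ⧸ N₀ → ℂ) := fun χ' hχ' =>
    Nat.eq_of_mul_eq_mul_left (Nat.pos_of_ne_zero T.index_ne_zero_of_finite)
      ((hover χ' hχ').trans (hover ζ (mem_blockOf_self hM ζ)).symm)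
  -- a single constituent on the centraliser
  let ρ : HT →* CV := (π.comp HT.subtype).codRestrict CV fun n => by
    rw [hCVeq]
    exact Subgroup.mem_map_of_mem π n.2
  have hρs : Function.Surjective ρ := by
    rintro ⟨q, hq⟩
    rw [hCVeq] at hq
    obtain ⟨t, ht, rfl⟩ := hq
    exact ⟨⟨t, ht⟩, Subtype.ext rfl⟩
  have hpull : ∀ η : Cfsg.IrrCharacter CV,
      Cfsg.classInner (fun c : CV => (ζ : T ⧸ N₀ → ℂ) c) (η : CV → ℂ) ≠ 0 →
      (η : CV → ℂ) ∘ ρ = (θT : HT → ℂ) := by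
    intro η hη
    let η' : Cfsg.IrrCharacter HT := ⟨_, isIrrCharacter_comp_surjective ρ hρs η.2⟩
    by_contra hne
    apply hη
    rw [← classInner_comp_surjective ρ hρs,
      show (fun c : CV => (ζ : T ⧸ N₀ → ℂ) c) ∘ ρ = fun n : HT => (ψ : T → ℂ) n from
        funext fun n => hζψ' n, hψres, classInner_smul_left,
      show ((η : CV → ℂ) ∘ ρ) = (η' : HT → ℂ) from rfl, classInner_irr,
      if_neg fun e => hne (congrArg Subtype.val e).symm, mul_zero]
  have hCVtop := centralizer_eq_top_of_equal_degrees hM hVp hCV hVC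
    (by
      rw [hCVeq, Subgroup.index_map_eq HT hπs
        (by rw [hπ, QuotientGroup.ker_mk']; exact hN₀D.trans (hHTeq ▸ le_sup_left))]
      exact hHTidx)
    ζ htriv (by rw [hVidx, hdegζ]; exact hψdeg) hequal fun η η' hη hη' => Subtype.ext (funext fun c => by
      obtain ⟨n, rfl⟩ := hρs c
      exact congrFun ((hpull η hη).trans (hpull η' hη').symm) n)
  intro t ht
  have h : π ⟨t, ht⟩ ∈ HT.map π := hCVeq ▸ hCVtop ▸ Subgroup.mem_top _
  obtain ⟨n, hn, hnt⟩ := h
  have h2 : n⁻¹ * ⟨t, ht⟩ ∈ N₀ := QuotientGroup.eq.1 hnt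
  have h3 : (⟨t, ht⟩ : T) ∈ HT := by
    have := HT.mul_mem hn ((hHTeq ▸ le_sup_left : DT ≤ HT) (hN₀D h2))
    rwa [mul_inv_cancel_left] at this
  exact h3

end Cfsg.Agent.Blocks.EqualDegree
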